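import Mathlib

/-! S2194: the Gram matrix of eleven flag characters and the possible multiplicity vectors. -/

set_option autoImplicit false

namespace Cfsg.Lib.RK3

open Finset

/-- The number of `3 × 3` matrices over `ℕ` with row sums `≤ r`, column sums `≤ c`, total `≥ t`. -/
def gr (r0 r1 r2 c0 c1 c2 t : ℕ) : ℕ :=
  #{m ∈ (range (min r0 c0 + 1) ×ˢ range (min r0 c1 + 1) ×ˢ range (min r0 c2 + 1)) ×ˢ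
      (range (min r1 c0 + 1) ×ˢ range (min r1 c1 + 1) ×ˢ range (min r1 c2 + 1)) ×ˢ
      (range (min r2 c0 + 1) ×ˢ range (min r2 c1 + 1) ×ˢ range (min r2 c2 + 1)) |
    m.1.1 + m.1.2.1 + m.1.2.2 ≤ r0 ∧ m.2.1.1 + m.2.1.2.1 + m.2.1.2.2 ≤ r1 ∧
    m.2.2.1 + m.2.2.2.1 + m.2.2.2.2 ≤ r2 ∧ m.1.1 + m.2.1.1 + m.2.2.1 ≤ c0 ∧
    m.1.2.1 + m.2.1.2.1 + m.2.2.2.1 ≤ c1 ∧ m.1.2.2 + m.2.1.2.2 + m.2.2.2.2 ≤ c2 ∧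
    t ≤ m.1.1 + m.1.2.1 + m.1.2.2 + (m.2.1.1 + m.2.1.2.1 + m.2.1.2.2) +
      (m.2.2.1 + m.2.2.2.1 + m.2.2.2.2)}

/-- The flag types: trivial, `P L PL E PE LE PLE PS LS PLS`. -/
def dm : Fin 11 → ℕ × ℕ × ℕ := ![(0, 0, 0), (0, 0, 1), (0, 0, 2), (0, 1, 2), (0, 0, 3), (0, 1, 3),
  (0, 2, 3), (1, 2, 3), (0, 1, 4), (0, 2, 4), (1, 2, 4)]

/-- The Gram matrix in dimension `n`. -/
def gm (n : ℕ) (i j : Fin 11) : ℕ :=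
  gr (dm i).1 ((dm i).2.1 - (dm i).1) ((dm i).2.2 - (dm i).2.1) (dm j).1 ((dm j).2.1 - (dm j).1)
    ((dm j).2.2 - (dm j).2.1) ((dm i).2.2 + (dm j).2.2 - n)

/-- Inner products of the combination `c` with the flag characters. -/
def bm (n : ℕ) (c : Fin 11 → ℤ) (j : Fin 11) : ℤ := ∑ i, c i * gm n i j

theorem gm_stable {n : ℕ} (hn : 8 ≤ n) : gm n = gm 8 := by
  ext i j
  have h : ∀ i, (dm i).2.2 ≤ 4 := by decide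
  have h1 := h i
  have h2 := h j
  rw [gm, gm, show (dm i).2.2 + (dm j).2.2 - n = 0 by omega,
    show (dm i).2.2 + (dm j).2.2 - 8 = 0 by omega]

/-- The characters `(n-1,1) (n-2,2) (n-2,1,1) (n-3,3) (n-3,2,1) (n-3,1,1,1)`. -/
def cv : Fin 6 → Fin 11 → ℤ := ![![-1, 1, 0, 0, 0, 0, 0, 0, 0, 0, 0],
  ![0, -1, 1, 0, 0, 0, 0, 0, 0, 0, 0], ![1, -1, -1, 1, 0, 0, 0, 0, 0, 0, 0],
  ![0, 0, -1, 0, 1, 0, 0, 0, 0, 0, 0], ![0, 1, 0, -1, -1, 1, 0, 0, 0, 0, 0],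
  ![-1, 1, 1, -1, 1, -2, 0, 1, 0, 0, 0]]

/-- Their multiplicities for `n = 5, 6, 7, 8`. -/
def tb : Fin 4 → Fin 6 → Fin 11 → ℤ := 
  ![![![0, 1, 1, 2, 1, 2, 2, 3, 2, 2, 3],
    ![0, 0, 1, 1, 1, 2, 2, 3, 1, 2, 3],
    ![0, 0, 0, 1, 0, 1, 1, 3, 1, 1, 3],
    ![0, 0, 0, 0, 0, 0, 0, 0, 0, 0, 0],
    ![0, 0, 0, 0, 0, 1, 1, 2, 0, 1, 2],
    ![0, 0, 0, 0, 0, 0, 0, 1, 0, 0, 1]],
  ![![0, 1, 1, 2, 1, 2, 2, 3, 2, 2, 3],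
    ![0, 0, 1, 1, 1, 2, 2, 3, 2, 3, 4],
    ![0, 0, 0, 1, 0, 1, 1, 3, 1, 1, 3],
    ![0, 0, 0, 0, 1, 1, 1, 1, 1, 1, 2],
    ![0, 0, 0, 0, 0, 1, 1, 2, 1, 2, 4],
    ![0, 0, 0, 0, 0, 0, 0, 1, 0, 0, 1]],
  ![![0, 1, 1, 2, 1, 2, 2, 3, 2, 2, 3],
    ![0, 0, 1, 1, 1, 2, 2, 3, 2, 3, 4],
    ![0, 0, 0, 1, 0, 1, 1, 3, 1, 1, 3],
    ![0, 0, 0, 0, 1, 1, 1, 1, 2, 2, 3],
    ![0, 0, 0, 0, 0, 1, 1, 2, 1, 2, 4],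
    ![0, 0, 0, 0, 0, 0, 0, 1, 0, 0, 1]],
  ![![0, 1, 1, 2, 1, 2, 2, 3, 2, 2, 3],
    ![0, 0, 1, 1, 1, 2, 2, 3, 2, 3, 4],
    ![0, 0, 0, 1, 0, 1, 1, 3, 1, 1, 3],
    ![0, 0, 0, 0, 1, 1, 1, 1, 2, 2, 3],
    ![0, 0, 0, 0, 0, 1, 1, 2, 1, 2, 4],
    ![0, 0, 0, 0, 0, 0, 0, 1, 0, 0, 1]]]

theorem bm_cv : ∀ (k : Fin 4) (s : Fin 6) (j : Fin 11), bm (5 + k) (cv s) j = tb k s j := by
  decide +kernel

theorem bm_cv' {n : ℕ} (hn : 5 ≤ n) : ∃ k : Fin 4, (6 ≤ n → k ≠ 0) ∧ ∀ s, bm n (cv s) = tb k s := by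
  rcases Nat.lt_or_ge n 8 with h | h
  · obtain ⟨k, rfl⟩ := Nat.exists_eq_add_of_le hn
    exact ⟨⟨k, by omega⟩, fun e e' => by simp [Fin.ext_iff] at e'; omega,
      fun s => funext (bm_cv ⟨k, by omega⟩ s)⟩
  · refine ⟨3, fun _ => by decide, fun s => funext fun j => ?_⟩
    rw [← bm_cv 3 s j, bm, bm, gm_stable h]
    rfl

/-- The possible multiplicity vectors of a non-trivial irreducible character. -/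
theorem mult_cases {n : ℕ} (hn : 5 ≤ n) (m : Fin 11 → ℤ) (h0 : m 0 = 0) (hm : ∀ j, 0 ≤ m j)
    (H0 : ∀ c, ∑ j, c j * bm n c j = 0 → ∑ j, c j * m j = 0)
    (H1 : ∀ c, ∑ j, c j * bm n c j = 1 → ∑ j, c j * m j ≠ 0 → m = bm n c ∨ m = -bm n c) :
    (m 1 = 1 ∧ m 2 = 1 ∧ m 3 = 2) ∨
    (m 1 = 0 ∧ m 2 = 1 ∧ m 4 = 1 ∧ m 5 = 2 ∧ m 7 = 3 ∧ (6 ≤ n → m 9 = 3)) ∨
    (m 2 = 0 ∧ m 3 = 1 ∧ m 4 = 0 ∧ m 5 = 1 ∧ m 6 = 1 ∧ m 7 = 3) ∨ (m 3 = 0 ∧ m 4 = m 7) ∨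
    (m 3 = 0 ∧ m 4 = 0 ∧ m 5 = 1 ∧ m 6 = 1 ∧ m 7 = 2) ∨ (m 8 = 0 ∧ m 9 = 0 ∧ m 10 = 1) := by
  obtain ⟨k, hk, e⟩ := bm_cv' hn
  have nrm : ∀ (k : Fin 4) (s : Fin 6), (∑ j, cv s j * tb k s j = 0 ∨
      (∑ j, cv s j * tb k s j = 1 ∧ 0 < tb k s 7)) := by decide
  have key : ∀ s, ∑ j, cv s j * m j = 0 ∨ m = tb k s := fun s => by
    rcases nrm k s with h | ⟨h, h'⟩
    · exact Or.inl (H0 _ (by rw [e]; exact h))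
    · refine or_iff_not_imp_left.2 fun ne => ?_
      rcases H1 _ (by rw [e]; exact h) ne with r | r
      · rw [r, e]
      · have := hm 7
        rw [r, e, Pi.neg_apply] at this
        omega
  have t0 : ∀ k, tb k 0 1 = 1 ∧ tb k 0 2 = 1 ∧ tb k 0 3 = 2 := by decide
  have t1 : ∀ k, tb k 1 1 = 0 ∧ tb k 1 2 = 1 ∧ tb k 1 4 = 1 ∧ tb k 1 5 = 2 ∧ tb k 1 7 = 3 ∧
      (k ≠ 0 → tb k 1 9 = 3) := by decide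
  have t2 : ∀ k, tb k 2 2 = 0 ∧ tb k 2 3 = 1 ∧ tb k 2 4 = 0 ∧ tb k 2 5 = 1 ∧ tb k 2 6 = 1 ∧
      tb k 2 7 = 3 := by decide
  have t3 : ∀ k, tb k 3 3 = 0 ∧ tb k 3 4 = tb k 3 7 := by decide
  have t4 : ∀ k, tb k 4 3 = 0 ∧ tb k 4 4 = 0 ∧ tb k 4 5 = 1 ∧ tb k 4 6 = 1 ∧ tb k 4 7 = 2 := by
    decide
  have t5 : ∀ k, tb k 5 8 = 0 ∧ tb k 5 9 = 0 ∧ tb k 5 10 = 1 := by decide
  rcases key 0 with k0 | rfl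
  swap
  · exact Or.inl (t0 k)
  rcases key 1 with k1 | rfl
  swap
  · obtain ⟨a, b, c, d, f, g⟩ := t1 k
    exact Or.inr (Or.inl ⟨a, b, c, d, f, fun h => g (hk h)⟩)
  rcases key 2 with k2 | rfl
  swap
  · exact Or.inr (Or.inr (Or.inl (t2 k)))
  rcases key 3 with k3 | rfl
  swap
  · exact Or.inr (Or.inr (Or.inr (Or.inl (t3 k))))
  rcases key 4 with k4 | rfl
  swap
  · exact Or.inr (Or.inr (Or.inr (Or.inr (Or.inl (t4 k)))))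
  rcases key 5 with k5 | rfl
  swap
  · exact Or.inr (Or.inr (Or.inr (Or.inr (Or.inr (t5 k)))))
  simp [cv, Fin.sum_univ_succ] at k0 k1 k2 k3 k4 k5
  refine Or.inr (Or.inr (Or.inr (Or.inl ⟨?_, ?_⟩))) <;> omega

theorem gr_one (k t : ℕ) : gr 0 0 k 0 0 k t = k + 1 - t := by
  rw [gr, ← Nat.card_Icc]
  refine card_nbij' (fun m => m.2.2.2.2) (fun x => ((0, 0, 0), (0, 0, 0), (0, 0, x))) ?_ ?_ ?_ ?_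
  · rintro ⟨⟨a, b, c⟩, ⟨d, e, f⟩, g, h, i⟩ hm
    simp only [coe_filter, mem_product, mem_range, Set.mem_setOf_eq, coe_Icc, Set.mem_Icc] at hm ⊢
    omega
  · intro x hx
    simp only [coe_filter, mem_product, mem_range, Set.mem_setOf_eq, coe_Icc, Set.mem_Icc] at hx ⊢
    omega
  · rintro ⟨⟨a, b, c⟩, ⟨d, e, f⟩, g, h, i⟩ hm
    simp only [coe_filter, mem_product, mem_range, Set.mem_setOf_eq, Prod.mk.injEq, and_true] at hm ⊢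
    omega
  · intro x _
    rfl

end Cfsg.Lib.RK3
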