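import Cfsg.Agent.Lib.RK3.Def

/-! Counting subspaces of a finite vector space (S2194). -/

set_option autoImplicit false

namespace Cfsg.Lib.RK3

open Module Submodule
open scoped Pointwise Classical

theorem th_succ (q k : ℕ) : th q (k + 1) = q * th q k + 1 := by
  simp [th, Finset.sum_range_succ', Finset.mul_sum, pow_succ']

theorem th_succ' (q k : ℕ) : th q (k + 1) = th q k + q ^ k := by
  exact Finset.sum_range_succ _ _

theorem th_two (q : ℕ) : th q 2 = q + 1 := by
  simp [th, Finset.sum_range_succ, add_comm]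

theorem th_three (q : ℕ) : th q 3 = q ^ 2 + q + 1 := by
  simp only [th, Finset.sum_range_succ, Finset.range_zero, Finset.sum_empty]; ring

theorem th_mono {q : ℕ} {k l : ℕ} (h : k ≤ l) : th q k ≤ th q l := by
  exact Finset.sum_le_sum_of_subset (Finset.range_mono h)

theorem th_mul {q : ℕ} (hq : 1 ≤ q) (k : ℕ) : th q k * (q - 1) = q ^ k - 1 := by
  obtain ⟨x, rfl⟩ := Nat.exists_eq_add_of_le' hq
  exact Nat.eq_sub_of_add_eq (geom_sum_mul_add x k)

variable {F V : Type*} [Field F] [AddCommGroup V] [Module F V] [Finite F] [Finite V]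

theorem two_le_q : 2 ≤ Nat.card F := Finite.one_lt_card

theorem cnt_sup_pt {A y : Submodule F V} (hy : finrank F y = 1) (h : ¬y ≤ A) :
    finrank F ↥(A ⊔ y) = finrank F A + 1 := by
  have a := finrank_sup_add_finrank_inf_eq A y
  have b : finrank F ↥(A ⊓ y) < finrank F y := finrank_lt_finrank_of_lt (inf_lt_right.2 h)
  omega

theorem cnt_card (U : Submodule F V) : (U : Set V).ncard = Nat.card F ^ finrank F U :=
  (Nat.card_coe_set_eq _).symm.trans Module.natCard_eq_pow_finrank

theorem cnt_pt {y : Submodule F V} (hy : finrank F y = 1) : ∃ v ≠ 0, y = span F {v} := by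
  obtain ⟨v, hv, v0⟩ := y.ne_bot_iff.1 (by rintro rfl; simp at hy)
  exact ⟨v, v0, (eq_of_le_of_finrank_eq ((span_singleton_le_iff_mem _ _).2 hv) ((finrank_span_singleton v0).trans hy.symm)).symm⟩

theorem cnt_eq {A B y : Submodule F V} (hB : A ≤ B) (e : finrank F B = finrank F A + 1) (hy : finrank F y = 1)
    (h : ¬y ≤ A) (k : y ≤ B) : A ⊔ y = B := eq_of_le_of_finrank_eq (sup_le hB k) ((cnt_sup_pt hy h).trans e.symm)

theorem pts_pt {z : Submodule F V} (hz : finrank F z = 1) : pts z = {z} := by
  ext y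
  rw [mem_pts, Finset.mem_singleton]
  exact ⟨fun h => eq_of_le_of_finrank_eq h.1 (h.2.trans hz.symm), by rintro rfl; exact ⟨le_rfl, hz⟩⟩

/-- The sets `B \ A`, `B ∈ up A U`, partition `U \ A` (`v ↦ A ⊔ span {v}`), each has
`q ^ (a + 1) - q ^ a` elements. -/
theorem card_up {A U : Submodule F V} (h : A ≤ U) :
    (up A U).card = th (Nat.card F) (finrank F U - finrank F A) := by
  classical
  have d : ∀ B : Submodule F V, A ≤ B → ((Set.toFinite ((B : Set V) \ A)).toFinset).card =
      Nat.card F ^ finrank F B - Nat.card F ^ finrank F A := fun B hB => by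
    rw [← Set.ncard_eq_toFinset_card, Set.ncard_diff (SetLike.coe_subset_coe.2 hB), cnt_card, cnt_card]
  have n : ∀ {v : V}, v ∉ A → finrank F (span F {v}) = 1 ∧ ¬span F {v} ≤ A := fun {v} hv =>
    ⟨finrank_span_singleton (by rintro rfl; exact hv (zero_mem _)), mt (span_singleton_le_iff_mem _ _).1 hv⟩
  have e := d U h
  rw [Finset.card_eq_sum_card_fiberwise (f := fun v => A ⊔ span F {v}) (t := up A U) (fun v hv => by
      obtain ⟨a, b⟩ : v ∈ U ∧ v ∉ A := by simpa using hv
      exact mem_up.2 ⟨le_sup_left, sup_le h ((span_singleton_le_iff_mem _ _).2 a), cnt_sup_pt (n b).1 (n b).2⟩),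
    Finset.sum_congr rfl (g := fun _ => Nat.card F ^ (finrank F A + 1) - Nat.card F ^ finrank F A) (fun B hB => by
      obtain ⟨a, -, c⟩ := mem_up.1 hB
      rw [← c, ← d B a]
      congr 1
      ext v
      simp only [Finset.mem_filter, Set.Finite.mem_toFinset, Set.mem_diff, SetLike.mem_coe]
      exact ⟨fun k => ⟨k.2 ▸ mem_sup_right (mem_span_singleton_self v), k.1.2⟩, fun k => ⟨⟨(mem_up.1 hB).2.1 k.1, k.2⟩,
        cnt_eq a c (n k.2).1 (n k.2).2 ((span_singleton_le_iff_mem _ _).2 k.1)⟩⟩), Finset.sum_const, smul_eq_mul] at e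
  obtain ⟨m, hm⟩ := Nat.exists_eq_add_of_le (finrank_mono h)
  have q := two_le_q (F := F)
  rw [hm, Nat.add_sub_cancel_left]
  rw [hm, pow_add _ _ m, pow_succ, ← Nat.mul_sub_one, ← Nat.mul_sub_one, ← th_mul (by omega), mul_left_comm] at e
  exact Nat.eq_of_mul_eq_mul_right (by omega) (Nat.eq_of_mul_eq_mul_left (pow_pos (by omega) _) e)

theorem card_pts (U : Submodule F V) : (pts U).card = th (Nat.card F) (finrank F U) := by
  simpa [pts] using card_up (bot_le : ⊥ ≤ U)

theorem cu_le (D : Set (Submodule F V)) (A U : Submodule F V) : cu D A U ≤ (up A U).card := by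
  exact Finset.card_filter_le _ _

theorem cu_add_compl (D : Set (Submodule F V)) (A U : Submodule F V) :
    cu D A U + cu Dᶜ A U = (up A U).card := by
  classical
  unfold cu
  convert Finset.card_filter_add_card_filter_not (s := up A U) (· ∈ D)

theorem cu_eq_zero {D : Set (Submodule F V)} {A U : Submodule F V} :
    cu D A U = 0 ↔ ∀ B ∈ up A U, B ∉ D := by
  simp [cu]

theorem cu_eq_card {D : Set (Submodule F V)} {A U : Submodule F V} :
    cu D A U = (up A U).card ↔ ∀ B ∈ up A U, B ∈ D := by
  exact Finset.card_filter_eq_iff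

theorem cu_congr {D D' : Set (Submodule F V)} {A U : Submodule F V}
    (h : ∀ B ∈ up A U, B ∈ D ↔ B ∈ D') : cu D A U = cu D' A U := by
  unfold cu
  congr 1
  exact Finset.filter_congr h

/-- Transport along a group element. -/
theorem cu_smul {Γ : Type*} [Group Γ] [DistribMulAction Γ V] [SMulCommClass Γ F V] (g : Γ)
    {D D' : Set (Submodule F V)} {A U : Submodule F V} (h : ∀ B ∈ up A U, g • B ∈ D' ↔ B ∈ D) :
    cu D' (g • A) (g • U) = cu D A U := by
  unfold cu
  refine (Finset.card_bij (fun B _ => g • B) (fun B hB => ?_) (fun _ _ _ _ e => MulAction.injective g e) fun B hB => ?_).symm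
  · obtain ⟨a, b⟩ := Finset.mem_filter.1 hB
    obtain ⟨x, y, z⟩ := mem_up.1 a
    exact Finset.mem_filter.2 ⟨mem_up.2 ⟨(smul_le g).2 x, (smul_le g).2 y, by rw [finrank_smul, finrank_smul, z]⟩, (h B a).2 b⟩
  · obtain ⟨B, rfl⟩ := MulAction.surjective g B
    obtain ⟨a, b⟩ := Finset.mem_filter.1 hB
    obtain ⟨x, y, z⟩ := mem_up.1 a
    have c := mem_up.2 ⟨(smul_le g).1 x, (smul_le g).1 y, by rwa [finrank_smul, finrank_smul] at z⟩
    exact ⟨B, Finset.mem_filter.2 ⟨c, (h B c).1 b⟩, rfl⟩

/-- The points of `U` outside `A` are partitioned by the members of `up A U` (`y ↦ A ⊔ y`). -/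
theorem pencil (D : Set (Submodule F V)) {A U : Submodule F V} (h : A ≤ U) :
    cn D U + (up A U).card * cn D A = cn D A + ∑ B ∈ up A U, cn D B := by
  classical
  let r : Submodule F V → Finset (Submodule F V) := fun X => (pts X).filter fun y => y ∈ D ∧ ¬y ≤ A
  have d : ∀ X, A ≤ X → cn D X = cn D A + (r X).card := fun X hX => by
    unfold cn cu
    rw [← Finset.card_filter_add_card_filter_not (s := (up ⊥ X).filter (· ∈ D)) (· ≤ A), Finset.filter_filter,
      Finset.filter_filter]
    congr 2
    ext y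
    simp only [Finset.mem_filter, mem_up]
    exact ⟨fun k => ⟨⟨k.1.1, k.2.2, k.1.2.2⟩, k.2.1⟩, fun k => ⟨⟨k.1.1, k.1.2.1.trans hX, k.1.2.2⟩, k.2, k.1.2.1⟩⟩
  have e : (r U).card = ∑ B ∈ up A U, (r B).card := by
    rw [Finset.card_eq_sum_card_fiberwise (f := fun y => A ⊔ y) (t := up A U) (fun y hy => by
      obtain ⟨a, -, b⟩ := Finset.mem_filter.1 hy
      exact mem_up.2 ⟨le_sup_left, sup_le h (mem_pts.1 a).1, cnt_sup_pt (mem_pts.1 a).2 b⟩)]
    refine Finset.sum_congr rfl fun B hB => ?_
    obtain ⟨a, b, c⟩ := mem_up.1 hB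
    congr 1
    ext y
    simp only [r, Finset.mem_filter, mem_pts]
    exact ⟨fun k => ⟨⟨k.2 ▸ le_sup_right, k.1.1.2⟩, k.1.2⟩,
      fun k => ⟨⟨⟨k.1.1.trans b, k.1.2⟩, k.2⟩, cnt_eq a c k.1.2 k.2.2 k.1.1⟩⟩
  rw [Finset.sum_congr rfl fun B hB => d B (mem_up.1 hB).1, Finset.sum_add_distrib, Finset.sum_const, smul_eq_mul, d U h, e]
  ring

/-- Pencil of lines through a point of `D`. -/
theorem pencil_mem {D : Set (Submodule F V)} {z U : Submodule F V} (hz : z ∈ pts U) (hD : z ∈ D) :
    cn D U + th (Nat.card F) (finrank F U - 1) = 1 + ∑ l ∈ up z U, cn D l := by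
  have := pencil D (mem_pts.1 hz).1
  have c : cn D z = 1 := by
    change ((pts z).filter _).card = 1
    rw [pts_pt (mem_pts.1 hz).2, Finset.filter_singleton, if_pos hD, Finset.card_singleton]
  rwa [c, mul_one, card_up (mem_pts.1 hz).1, (mem_pts.1 hz).2] at this

/-- Pencil of lines through a point outside `D`. -/
theorem pencil_notMem {D : Set (Submodule F V)} {z U : Submodule F V} (hz : z ∈ pts U)
    (hD : z ∉ D) : cn D U = ∑ l ∈ up z U, cn D l := by
  have := pencil D (mem_pts.1 hz).1
  have c : cn D z = 0 := by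
    change ((pts z).filter _).card = 0
    rw [pts_pt (mem_pts.1 hz).2, Finset.filter_singleton, if_neg hD, Finset.card_empty]
  rwa [c, mul_zero, add_zero, zero_add] at this

theorem finrank_sup_pt {A y : Submodule F V} (hy : finrank F y = 1) (h : ¬y ≤ A) :
    finrank F ↥(A ⊔ y) = finrank F A + 1 := by
  exact cnt_sup_pt hy h

/-- Two distinct points span a line. -/
theorem finrank_sup_pts {y z : Submodule F V} (hy : finrank F y = 1) (hz : finrank F z = 1)
    (h : y ≠ z) : finrank F ↥(y ⊔ z) = 2 := by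
  rw [cnt_sup_pt hz fun e => h (eq_of_le_of_finrank_eq e (hz.trans hy.symm)).symm, hy]

theorem exists_pt_not_le {A U : Submodule F V} (h : ¬U ≤ A) : ∃ y ∈ pts U, ¬y ≤ A := by
  obtain ⟨v, hv, n⟩ := SetLike.not_le_iff_exists.1 h
  exact ⟨span F {v}, mem_pts.2 ⟨(span_singleton_le_iff_mem _ _).2 hv,
    finrank_span_singleton (by rintro rfl; exact n (zero_mem _))⟩, mt (span_singleton_le_iff_mem _ _).1 n⟩

theorem exists_between {A U : Submodule F V} (h : A ≤ U) {k : ℕ} (h1 : finrank F A ≤ k)
    (h2 : k ≤ finrank F U) : ∃ B, A ≤ B ∧ B ≤ U ∧ finrank F B = k := by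
  induction k, h1 using Nat.le_induction with
  | base => exact ⟨A, le_rfl, h, rfl⟩
  | succ k _ ih =>
    obtain ⟨B, a, b, c⟩ := ih (by omega)
    obtain ⟨y, hy, n⟩ := exists_pt_not_le (A := B) (U := U) fun e => by have := finrank_mono e; omega
    exact ⟨B ⊔ y, a.trans le_sup_left, sup_le b (mem_pts.1 hy).1, by rw [cnt_sup_pt (mem_pts.1 hy).2 n, c]⟩

/-- Subspaces of large dimension inside `U` meet. -/
theorem exists_pt_inf {A B U : Submodule F V} (hA : A ≤ U) (hB : B ≤ U)
    (h : finrank F U < finrank F A + finrank F B) : ∃ y, y ≤ A ∧ y ≤ B ∧ finrank F y = 1 := by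
  have a := finrank_sup_add_finrank_inf_eq A B
  have b := finrank_mono (sup_le hA hB)
  obtain ⟨y, -, c, d⟩ := exists_between (bot_le : ⊥ ≤ A ⊓ B) (k := 1) (by simp) (by omega)
  exact ⟨y, c.trans inf_le_left, c.trans inf_le_right, d⟩

/-- `V` is not a union of `q + 1` subspaces of codimension `≥ 2`: `(q + 1) q ^ (n - 2) < q ^ n`. -/
theorem not_cover {ι : Type*} (s : Finset ι) (hs : s.card ≤ Nat.card F + 1) (W : ι → Submodule F V)
    (hW : ∀ i ∈ s, finrank F (W i) + 2 ≤ finrank F V) : ∃ v, ∀ i ∈ s, v ∉ W i := by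
  classical
  by_contra h
  push Not at h
  obtain ⟨i, hi, -⟩ := h 0
  obtain ⟨m, hm⟩ := Nat.exists_eq_add_of_le' (le_of_add_le_right (hW i hi))
  have q := two_le_q (F := F)
  have := Fintype.ofFinite V
  have a : (Finset.univ : Finset V) ⊆ s.biUnion fun i => (Set.toFinite (W i : Set V)).toFinset := fun v _ => by
    simpa using h v
  have b := (Finset.card_le_card a).trans (Finset.card_biUnion_le_card_mul _ _ (Nat.card F ^ m) fun i hi => by
    rw [← Set.ncard_eq_toFinset_card, cnt_card]
    exact Nat.pow_le_pow_right (by omega) (by have := hW i hi; omega))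
  rw [Finset.card_univ, ← Nat.card_eq_fintype_card, Module.natCard_eq_pow_finrank (K := F), hm, pow_add, mul_comm] at b
  have := Nat.le_of_mul_le_mul_right (b.trans (Nat.mul_le_mul_right _ hs)) (pow_pos (by omega) _)
  nlinarith

/-- A set of points closed under lines is the point set of a subspace (the union of the points
with `0`; a sum `v + w` of independent vectors spans a point of the line `span {v} ⊔ span {w}`). -/
theorem exists_sub_of_closed (D : Set (Submodule F V))
    (h : ∀ y z u : Submodule F V, finrank F y = 1 → finrank F z = 1 → finrank F u = 1 → y ∈ D →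
      z ∈ D → y ≠ z → u ≤ y ⊔ z → u ∈ D) :
    ∃ W : Submodule F V, ∀ y : Submodule F V, finrank F y = 1 → (y ∈ D ↔ y ≤ W) := by
  let W : Submodule F V :=
    { carrier := {v | v = 0 ∨ span F {v} ∈ D}
      zero_mem' := .inl rfl
      smul_mem' := fun a v hv => by
        by_cases a0 : a = 0
        · exact .inl (by simp [a0])
        · exact hv.imp (by rintro rfl; simp) fun e => by rwa [span_singleton_smul_eq (IsUnit.mk0 a a0)]
      add_mem' := fun {v w} hv hw => by
        by_cases v0 : v = 0
        · rwa [v0, zero_add]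
        by_cases w0 : w = 0
        · rwa [w0, add_zero]
        refine or_iff_not_imp_left.2 fun u0 => ?_
        have le : span F {v + w} ≤ span F {v} ⊔ span F {w} := (span_singleton_le_iff_mem _ _).2
          (add_mem_sup (mem_span_singleton_self v) (mem_span_singleton_self w))
        by_cases e : span F {v} = span F {w}
        · rw [e, sup_idem] at le
          rw [eq_of_le_of_finrank_eq le ((finrank_span_singleton u0).trans (finrank_span_singleton w0).symm)]
          exact hw.resolve_left w0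
        · exact h _ _ _ (finrank_span_singleton v0) (finrank_span_singleton w0) (finrank_span_singleton u0)
            (hv.resolve_left v0) (hw.resolve_left w0) e le }
  refine ⟨W, fun y hy => ?_⟩
  obtain ⟨v, v0, rfl⟩ := cnt_pt hy
  rw [span_singleton_le_iff_mem]
  exact ⟨.inr, fun k => k.resolve_left v0⟩

/-- A subspace is determined by its points. -/
theorem le_of_pts {A B : Submodule F V}
    (h : ∀ y : Submodule F V, finrank F y = 1 → y ≤ A → y ≤ B) : A ≤ B := by
  by_contra n
  obtain ⟨y, hy, k⟩ := exists_pt_not_le n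
  exact k (h y (mem_pts.1 hy).2 (mem_pts.1 hy).1)

/-- Lines: `#lines * (q + 1) = [n] [n - 1]` (count flags in two ways, `card_up`). -/
theorem ncard_G1_two : (G1 F V 2).ncard * (Nat.card F + 1) =
    th (Nat.card F) (finrank F V) * th (Nat.card F) (finrank F V - 1) := by
  classical
  rw [Set.ncard_eq_toFinset_card, ← finrank_top F V, ← card_pts]
  refine Finset.card_mul_eq_card_mul (fun l y => y ≤ l) (fun l hl => ?_) fun y hy => ?_
  · have e : finrank F l = 2 := by simpa [G1] using hl
    rw [← th_two, ← e, ← card_pts]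
    congr 1
    ext y
    simp [mem_pts, and_comm]
  · rw [← (mem_pts.1 hy).2, ← card_up le_top]
    congr 1
    ext l
    simp [mem_up, G1, (mem_pts.1 hy).2, and_comm]

/-- Annihilators: as many `k`-subspaces as `(n - k)`-subspaces (`dualAnnihilator`, then a linear
equivalence `Dual F V ≃ₗ V`). -/
theorem ncard_G1_dual {k l : ℕ} (h : k + l = finrank F V) : (G1 F V k).ncard = (G1 F V l).ncard := by
  have e : Dual F V ≃ₗ[F] V := LinearEquiv.ofFinrankEq _ _ Subspace.dual_finrank_eq
  have key : ∀ {k l : ℕ}, k + l = finrank F V → (G1 F V k).ncard ≤ (G1 F V l).ncard := fun {k l} h =>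
    Set.ncard_le_ncard_of_injOn (fun U => U.dualAnnihilator.map (e : Dual F V →ₗ[F] V)) (fun U hU => by
      have a := Subspace.finrank_add_finrank_dualAnnihilator_eq U
      have b : finrank F U = k := hU
      exact (LinearEquiv.finrank_map_eq e _).trans (by omega))
      fun U _ W _ c => Subspace.dualAnnihilator_inj.1 (map_injective_of_injective e.injective c)
  exact le_antisymm (key h) (key (add_comm k l ▸ h))

end Cfsg.Lib.RK3
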