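import Cfsg.Agent.Lib.RK3.Orb
import Cfsg.Agent.Lib.RK3.Cnt
import Cfsg.Agent.Lib.RK3.Ce
import Cfsg.Agent.Lib.CharDeg.FlagChar

/-! S2194: flags of `F ^ n` and cosets of parabolic subgroups. -/

set_option autoImplicit false
set_option linter.unusedSectionVars false

namespace Cfsg.Lib.RK3

open Module Submodule MulAction Cfsg.Lib.GLFlag
open scoped Pointwise

/-- The composition `(a, b - a, c - b, n - c, 0, …)`. -/
def cmp (n a b c : ℕ) (i : Fin n) : ℕ :=
  if (i : ℕ) = 0 then a else if (i : ℕ) = 1 then b - a else if (i : ℕ) = 2 then c - b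
  else if (i : ℕ) = 3 then n - c else 0

/-- Admissible dimensions. -/
structure Adm (n a b c : ℕ) : Prop where
  four : 4 ≤ n
  ab : a ≤ b
  bc : b ≤ c
  cn : c ≤ n

variable {n a b c : ℕ}

theorem Adm.sum (h : Adm n a b c) : ∑ i, cmp n a b c i = n := by
  obtain ⟨h4, h1, h2, h3⟩ := h
  obtain ⟨m, rfl⟩ := Nat.exists_eq_add_of_le h4
  have e : ∀ i : Fin m, cmp (4 + m) a b c (Fin.natAdd 4 i) = 0 := fun i => by
    simp only [cmp, Fin.val_natAdd]
    rw [if_neg (by omega), if_neg (by omega), if_neg (by omega), if_neg (by omega)]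
  rw [Fin.sum_univ_add, Fin.sum_univ_four]
  simp only [e, Finset.sum_const_zero]
  simp [cmp]
  omega

theorem cmp_tail {m : ℕ} (i : Fin m) : cmp (4 + m) a b c (Fin.natAdd 4 i) = 0 := by
  simp only [cmp, Fin.val_natAdd]
  rw [if_neg (by omega), if_neg (by omega), if_neg (by omega), if_neg (by omega)]

theorem Adm.psum (h : Adm n a b c) (j : Fin n) : ∑ k ∈ Finset.univ.filter (fun k : Fin n => k ≤ j), cmp n a b c k =
    if (j : ℕ) = 0 then a else if (j : ℕ) = 1 then b else if (j : ℕ) = 2 then c else n := by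
  obtain ⟨h4, h1, h2, h3⟩ := h
  obtain ⟨m, rfl⟩ := Nat.exists_eq_add_of_le h4
  rw [Finset.sum_filter, Fin.sum_univ_add, Fin.sum_univ_four]
  simp only [cmp_tail, ite_self, Finset.sum_const_zero]
  simp only [cmp, Fin.le_def, Fin.val_castAdd, Fin.val_zero, Fin.val_one, Fin.val_two, show ((3 : Fin 4) : ℕ) = 3 from rfl]
  split_ifs <;> first | omega | contradiction

/-- The partial sums of `cmp` are `a, b, c, n, n, …`. -/
theorem Adm.label (h : Adm n a b c) (i : Fin n) : compLabel (cmp n a b c) i =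
    (if a ≤ (i : ℕ) then 1 else 0) + (if b ≤ (i : ℕ) then 1 else 0) +
      (if c ≤ (i : ℕ) then 1 else 0) := by
  simp only [compLabel, h.psum]
  obtain ⟨h4, h1, h2, h3⟩ := h
  obtain ⟨m, rfl⟩ := Nat.exists_eq_add_of_le h4
  have e : ∀ j : Fin m, ¬ (if 4 + (j : ℕ) = 0 then a else if 4 + (j : ℕ) = 1 then b else if 4 + (j : ℕ) = 2 then c
      else 4 + m) ≤ (i : ℕ) := fun j => by
    have := i.2
    rw [if_neg (by omega), if_neg (by omega), if_neg (by omega)]
    omega
  rw [Finset.card_filter, Fin.sum_univ_add, Fin.sum_univ_four]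
  simp only [Fin.val_natAdd, e, if_false, Finset.sum_const_zero, Fin.val_castAdd, Fin.val_zero, Fin.val_one, Fin.val_two,
    show ((3 : Fin 4) : ℕ) = 3 from rfl]
  have := i.2
  split_ifs <;> first | omega | contradiction

theorem margin4 {m : ℕ} {f : Fin (4 + m) → ℕ} {g : Fin (4 + m) → Fin (4 + m) → ℕ} (t : ∀ i : Fin m, f (Fin.natAdd 4 i) = 0)
    (r : ∀ i, ∑ j, g j i = f i) (j : Fin (4 + m)) (i : Fin m) : g j (Fin.natAdd 4 i) = 0 :=
  Finset.sum_eq_zero_iff.1 ((r _).trans (t i)) j (Finset.mem_univ j)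

set_option maxHeartbeats 1000000 in

/-- A matrix with these margins vanishes outside the top left `4 × 4` block and is determined by
the top left `3 × 3` block `m`; the entry `(3, 3)` is `n - c - c' + ∑ m`. -/
theorem nMat_cmp {a' b' c' : ℕ} (h : Adm n a b c) (h' : Adm n a' b' c') :
    nMat (cmp n a b c) (cmp n a' b' c') =
      gr a (b - a) (c - b) a' (b' - a') (c' - b') (c + c' - n) := by
  obtain ⟨h4, h1, h2, h3⟩ := h
  obtain ⟨-, k1, k2, k3⟩ := h'
  obtain ⟨m, rfl⟩ := Nat.exists_eq_add_of_le h4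
  have key : ∀ M : Fin (4 + m) → Fin (4 + m) → ℕ, (∀ r, ∑ t, M r t = cmp (4 + m) a b c r) →
      (∀ t, ∑ r, M r t = cmp (4 + m) a' b' c' t) → (∀ r i, M r (Fin.natAdd 4 i) = 0) ∧ (∀ i t, M (Fin.natAdd 4 i) t = 0) ∧
      (∀ r : Fin 4, ∑ t : Fin 4, M (Fin.castAdd m r) (Fin.castAdd m t) = ![a, b - a, c - b, 4 + m - c] r) ∧
      ∀ t : Fin 4, ∑ r : Fin 4, M (Fin.castAdd m r) (Fin.castAdd m t) = ![a', b' - a', c' - b', 4 + m - c'] t := by
    intro M r1 r2
    have z1 := margin4 cmp_tail r2
    have z2 := fun i t => margin4 (g := fun j i => M i j) cmp_tail r1 t i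
    refine ⟨z1, z2, fun r => ?_, fun t => ?_⟩
    · have := r1 (Fin.castAdd m r)
      rw [Fin.sum_univ_add] at this
      simp only [z1, Finset.sum_const_zero, add_zero] at this
      rw [this]
      fin_cases r <;> simp [cmp]
    · have := r2 (Fin.castAdd m t)
      rw [Fin.sum_univ_add] at this
      simp only [z2, Finset.sum_const_zero, add_zero] at this
      rw [this]
      fin_cases t <;> simp [cmp]
  rw [nMat, gr, ← Set.ncard_coe_finset]
  refine (Nat.card_coe_set_eq {M : Fin (4 + m) → Fin (4 + m) → ℕ | (∀ r, ∑ t, M r t = cmp (4 + m) a b c r) ∧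
      ∀ t, ∑ r, M r t = cmp (4 + m) a' b' c' t}).trans (Set.ncard_congr (fun M _ =>
    ((M (Fin.castAdd m 0) (Fin.castAdd m 0), M (Fin.castAdd m 0) (Fin.castAdd m 1), M (Fin.castAdd m 0) (Fin.castAdd m 2)),
     (M (Fin.castAdd m 1) (Fin.castAdd m 0), M (Fin.castAdd m 1) (Fin.castAdd m 1), M (Fin.castAdd m 1) (Fin.castAdd m 2)),
     (M (Fin.castAdd m 2) (Fin.castAdd m 0), M (Fin.castAdd m 2) (Fin.castAdd m 1), M (Fin.castAdd m 2) (Fin.castAdd m 2))))
    (fun M hM => ?_) (fun M N hM hN e => ?_) fun x hx => ?_)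
  · obtain ⟨-, -, r, t⟩ := key M hM.1 hM.2
    have r0 := r 0
    have r1 := r 1
    have r2 := r 2
    have r3 := r 3
    have t0 := t 0
    have t1 := t 1
    have t2 := t 2
    simp only [Fin.sum_univ_four, Matrix.cons_val] at r0 r1 r2 r3 t0 t1 t2
    simp only [Finset.coe_filter, Finset.mem_product, Finset.mem_range, Set.mem_setOf_eq]
    omega
  · obtain ⟨z1, z2, r, t⟩ := key M hM.1 hM.2
    obtain ⟨y1, y2, r', t'⟩ := key N hN.1 hN.2
    have r0 := (r 0).trans (r' 0).symm
    have r1 := (r 1).trans (r' 1).symm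
    have r2 := (r 2).trans (r' 2).symm
    have r3 := (r 3).trans (r' 3).symm
    have t0 := (t 0).trans (t' 0).symm
    have t1 := (t 1).trans (t' 1).symm
    have t2 := (t 2).trans (t' 2).symm
    simp only [Fin.sum_univ_four] at r0 r1 r2 r3 t0 t1 t2
    simp only [Prod.mk.injEq] at e
    have q : ∀ i j : Fin 4, M (Fin.castAdd m i) (Fin.castAdd m j) = N (Fin.castAdd m i) (Fin.castAdd m j) := by
      simp only [Fin.forall_fin_succ, Fin.succ_zero_eq_one, Fin.succ_one_eq_two, Fin.reduceSucc, IsEmpty.forall_iff,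
        and_true]
      omega
    funext i j
    induction i using Fin.addCases with
    | right i => rw [z2, y2]
    | left i =>
      induction j using Fin.addCases with
      | right j => rw [z1, y1]
      | left j => exact q i j
  · obtain ⟨⟨x0, x1, x2⟩, ⟨y0, y1, y2⟩, z0, z1, z2⟩ := x
    simp only [Finset.coe_filter, Finset.mem_product, Finset.mem_range, Set.mem_setOf_eq] at hx
    replace hx := hx.2
    let N : Fin 4 → Fin 4 → ℕ := ![![x0, x1, x2, a - (x0 + x1 + x2)], ![y0, y1, y2, b - a - (y0 + y1 + y2)],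
      ![z0, z1, z2, c - b - (z0 + z1 + z2)], ![a' - (x0 + y0 + z0), b' - a' - (x1 + y1 + z1), c' - b' - (x2 + y2 + z2),
        4 + m + (x0 + x1 + x2 + (y0 + y1 + y2) + (z0 + z1 + z2)) - (c + c')]]
    refine ⟨Fin.addCases (fun r => Fin.addCases (N r) fun _ => 0) fun _ _ => 0, ⟨fun r => ?_, fun t => ?_⟩, ?_⟩
    · induction r using Fin.addCases with
      | right r => simp [cmp_tail]
      | left r =>
        simp only [Fin.addCases_left, Fin.sum_univ_add, Fin.addCases_right, Finset.sum_const_zero, Fin.sum_univ_four]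
        fin_cases r <;> simp [cmp, N] <;> omega
    · induction t using Fin.addCases with
      | right t => simp [cmp_tail, Fin.sum_univ_add]
      | left t =>
        simp only [Fin.addCases_left, Fin.sum_univ_add, Fin.addCases_right, Finset.sum_const_zero, Fin.sum_univ_four]
        fin_cases t <;> simp [cmp, N] <;> omega
    · simp [N]

variable (n) (F : Type*) [Field F]

/-- The special linear group. -/
abbrev SLn := Matrix.SpecialLinearGroup (Fin n) F

/-- The permutation character on the cosets of a parabolic subgroup, restricted to `SL`. -/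
noncomputable def fx (α : Fin n → ℕ) : SLn n F → ℂ := fun g =>
  fixedPointCharacter (parabolicGL n F α) (Matrix.SpecialLinearGroup.toGL g)

/-- The permutation character of `SL` on flags. -/
noncomputable def rho (a b c : ℕ) : SLn n F → ℂ := fun g =>
  (Nat.card (fixedBy (iv3 (F := F) (V := Fin n → F) (Γ := SLn n F) a b c).sub g) : ℂ)

/-- The standard subspace spanned by the first `d` basis vectors. -/
def std (d : ℕ) : Submodule F (Fin n → F) := Submodule.pi {i | d ≤ (i : ℕ)} fun _ => ⊥

variable {n F}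

theorem mem_std {d : ℕ} {v : Fin n → F} : v ∈ std n F d ↔ ∀ i : Fin n, d ≤ (i : ℕ) → v i = 0 := by
  simp [std, Submodule.mem_pi]

theorem finrank_std {d : ℕ} (h : d ≤ n) : finrank F (std n F d) = d := by
  let e : Fin (n - d) → Fin n := fun j => ⟨d + j, by omega⟩
  have i : Function.Injective e := fun j k h => Fin.ext (by simpa [e] using h)
  have k : LinearMap.ker (LinearMap.funLeft F F e) = std n F d := by
    ext v
    rw [mem_std, LinearMap.mem_ker, funext_iff]
    refine ⟨fun H j hj => ?_, fun H j => H _ (by simp [e])⟩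
    have := H ⟨j - d, by omega⟩
    simp only [LinearMap.funLeft_apply, e, Pi.zero_apply] at this
    rwa [show (⟨d + (j - d), _⟩ : Fin n) = j from Fin.ext (by simp; omega)] at this
  have := (LinearMap.funLeft F F e).finrank_range_add_finrank_ker
  rw [k, LinearMap.range_eq_top.2 (LinearMap.funLeft_surjective_of_injective F F e i), finrank_top] at this
  simp only [Module.finrank_fin_fun] at this
  omega

theorem gl_smul (g : GL (Fin n) F) (v : Fin n → F) : g • v = (g : Matrix (Fin n) (Fin n) F).mulVec v := rfl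

theorem smul_std_eq (g : GL (Fin n) F) {d : ℕ} (h : d ≤ n) {U : Submodule F (Fin n → F)} (e : finrank F U = d)
    (H : ∀ j : Fin n, (j : ℕ) < d → (g : Matrix (Fin n) (Fin n) F).col j ∈ U) : g • std n F d = U := by
  refine eq_of_le_of_finrank_eq (fun v hv => ?_) ((finrank_smul g _).trans ((finrank_std h).trans e.symm))
  replace hv := mem_std.1 ((mem_smul' g).1 hv)
  rw [← smul_inv_smul g v, gl_smul, Matrix.mulVec_eq_sum]
  refine U.sum_mem fun j _ => ?_
  rcases lt_or_ge (j : ℕ) d with l | l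
  · rw [op_smul_eq_smul]
    exact U.smul_mem _ (H j l)
  · rw [hv j l]
    simp

/-- Choose a basis adapted to the flag (extend linearly independent families three times, or use
induction with `exists_between`); the matrix with these columns maps the standard flag to it. -/
theorem exists_gl [Finite F] (h : Adm n a b c)
    {U : Submodule F (Fin n → F) × Submodule F (Fin n → F) × Submodule F (Fin n → F)}
    (hU : U ∈ G3 F (Fin n → F) a b c) :
    ∃ g : GL (Fin n) F, g • (std n F a, std n F b, std n F c) = U := by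
  classical
  haveI := Fintype.ofFinite F
  obtain ⟨U1, U2, U3⟩ := U
  obtain ⟨u1, u2, u3, u4, u5⟩ := hU
  obtain ⟨h4, h1, h2, h3⟩ := h
  dsimp only at u1 u2 u3 u4 u5
  let W : Fin n → Submodule F (Fin n → F) := fun j =>
    if (j : ℕ) < a then U1 else if (j : ℕ) < b then U2 else if (j : ℕ) < c then U3 else ⊤
  have m : Monotone W := fun i j l => by
    have : (i : ℕ) ≤ j := l
    simp only [W]
    split_ifs <;> first | omega | exact le_rfl | exact le_top | exact u1 | exact u2 | exact u1.trans u2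
  have d : ∀ j : Fin n, (j : ℕ) < finrank F (W j) := fun j => by
    by_cases l1 : (j : ℕ) < a
    · rw [show W j = U1 from if_pos l1]; omega
    by_cases l2 : (j : ℕ) < b
    · rw [show W j = U2 from (if_neg l1).trans (if_pos l2)]; omega
    by_cases l3 : (j : ℕ) < c
    · rw [show W j = U3 from (if_neg l1).trans ((if_neg l2).trans (if_pos l3))]; omega
    · rw [show W j = ⊤ from (if_neg l1).trans ((if_neg l2).trans (if_neg l3))]; simp
  have p := card_linearIndependent_mem W m
  obtain ⟨s, s1, s2⟩ := (Nat.card_pos_iff.1 (p ▸ Finset.prod_pos fun j _ => Nat.sub_pos_of_lt (by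
    rw [Module.natCard_eq_pow_finrank (K := F), Nat.card_eq_fintype_card]
    exact Nat.pow_lt_pow_right Fintype.one_lt_card (d j)))).1
  obtain ⟨g, hg⟩ := (Matrix.linearIndependent_cols_iff_isUnit (A := (Matrix.of s).transpose)).1 s1
  have c1 : ∀ j, (g : Matrix (Fin n) (Fin n) F).col j ∈ W j := fun j => hg ▸ s2 j
  refine ⟨g, Prod.ext (smul_std_eq g (by omega) u3 fun j l => ?_)
    (Prod.ext (smul_std_eq g (by omega) u4 fun j l => ?_) (smul_std_eq g h3 u5 fun j l => ?_))⟩
  · simpa [W, l] using c1 j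
  · have := c1 j
    simp only [W] at this
    split_ifs at this
    exacts [u1 this, this]
  · have := c1 j
    simp only [W] at this
    split_ifs at this
    exacts [u2 (u1 this), u2 this, this]

theorem smul_std_iff (g : GL (Fin n) F) {d : ℕ} (h : d ≤ n) : g • std n F d = std n F d ↔
    ∀ i j : Fin n, (j : ℕ) < d → d ≤ (i : ℕ) → (g : Matrix (Fin n) (Fin n) F) i j = 0 := by
  refine ⟨fun e i j l l' => ?_, fun H => smul_std_eq g h (finrank_std h) fun j l => mem_std.2 fun i l' => H i j l l'⟩
  have : g • (Pi.single j 1 : Fin n → F) ∈ std n F d := e ▸ (mem_smul g).2 (mem_std.2 fun k hk =>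
    Pi.single_eq_of_ne (fun e => by omega) _)
  simpa [gl_smul] using mem_std.1 this i l'

/-- `g • std d = std d` iff `g i j = 0` for `j < d ≤ i`; use `Adm.label`. -/
theorem stab_std [Finite F] (h : Adm n a b c) :
    stabilizer (GL (Fin n) F) (std n F a, std n F b, std n F c) = parabolicGL n F (cmp n a b c) := by
  ext g
  rw [mem_stabilizer_iff, mem_parabolicGL, Prod.smul_mk, Prod.smul_mk, Prod.mk.injEq, Prod.mk.injEq,
    smul_std_iff g (h.ab.trans (h.bc.trans h.cn)), smul_std_iff g (h.bc.trans h.cn), smul_std_iff g h.cn]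
  refine ⟨fun ⟨e1, e2, e3⟩ i j l => ?_, fun e => ⟨fun i j l l' => e ?_, fun i j l l' => e ?_, fun i j l l' => e ?_⟩⟩
  · rw [h.label, h.label] at l
    have := h.ab
    have := h.bc
    by_cases c1 : (j : ℕ) < a ∧ a ≤ (i : ℕ)
    · exact e1 i j c1.1 c1.2
    by_cases c2 : (j : ℕ) < b ∧ b ≤ (i : ℕ)
    · exact e2 i j c2.1 c2.2
    refine e3 i j ?_ ?_ <;> split_ifs at l <;> omega
  all_goals
    rw [h.label, h.label]
    have := h.ab
    have := h.bc
    split_ifs <;> omega

/-- `G3 a b c` is the `GL`-orbit of the standard flag (`orbitEquivQuotientStabilizer`), and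
`g • U = toGL g • U` for `g : SL`. -/
theorem rho_eq [Finite F] (h : Adm n a b c) : rho n F a b c = fx n F (cmp n a b c) := by
  funext g
  have s : (std n F a, std n F b, std n F c) ∈ G3 F (Fin n → F) a b c :=
    ⟨fun v hv => mem_std.2 fun i l => mem_std.1 hv i (h.ab.trans l),
      fun v hv => mem_std.2 fun i l => mem_std.1 hv i (h.bc.trans l), finrank_std (h.ab.trans (h.bc.trans h.cn)),
      finrank_std (h.bc.trans h.cn), finrank_std h.cn⟩
  rw [rho, fx, fix_def, ← stab_std h, Nat.cast_inj]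
  have m : ∀ q, ofQuotientStabilizer (GL (Fin n) F) (std n F a, std n F b, std n F c) q ∈ G3 F (Fin n → F) a b c :=
    fun q => by
      obtain ⟨k, e⟩ := ofQuotientStabilizer_mem_orbit (GL (Fin n) F) _ q
      exact e ▸ iv3 (Γ := GL (Fin n) F) a b c k _ s
  refine (Nat.card_eq_of_bijective (fun q : fixedBy _ (Matrix.SpecialLinearGroup.toGL g) =>
    (⟨⟨_, m q.1⟩, Subtype.ext ((ofQuotientStabilizer_smul (GL (Fin n) F) _ (Matrix.SpecialLinearGroup.toGL g) q.1).symm.trans
      (congrArg _ q.2))⟩ : fixedBy (iv3 (F := F) (V := Fin n → F) (Γ := SLn n F) a b c).sub g)) ⟨?_, ?_⟩).symm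
  · intro q q' e
    exact Subtype.ext (injective_ofQuotientStabilizer _ _ (congrArg (fun z => z.1.1) e))
  · rintro ⟨⟨U, hU⟩, e⟩
    obtain ⟨k, rfl⟩ := exists_gl h hU
    refine ⟨⟨QuotientGroup.mk k, injective_ofQuotientStabilizer (GL (Fin n) F) _ ?_⟩, rfl⟩
    rw [ofQuotientStabilizer_smul]
    exact congrArg Subtype.val e

end Cfsg.Lib.RK3
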