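import Cfsg.Agent.Lib.RK3.Ca

/-! S2194: non-trivial constituents of the flag characters of `SL_n(q)` have degree `≡ 0 mod q`. -/

set_option autoImplicit false

namespace Cfsg.Lib.RK3

open Finset Cfsg.Lib.GLFlag Cfsg.Lib.Char

variable {n : ℕ} {F : Type*} [Field F] [Fintype F] [Fintype (SLn n F)] {α β ν ν' : Fin n → ℕ}

omit [Fintype (SLn n F)] in

/-- `isCharacter_fix`, `IsCharacter.comp`. -/
theorem isChar_fx (α : Fin n → ℕ) : IsCharacter (SLn n F) (fx n F α) := by
  exact (isCharacter_fix _).comp Matrix.SpecialLinearGroup.toGL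

theorem fix_comap {G H : Type*} [Group G] [Group H] (f : H →* G) (K : Subgroup G)
    (hf : ∀ g, ∃ h, (f h)⁻¹ * g ∈ K) (h : H) :
    fixedPointCharacter K (f h) = fixedPointCharacter (K.comap f) h := by
  let Q : H ⧸ K.comap f → G ⧸ K := Quotient.map' f fun a b e => by
    rw [QuotientGroup.leftRel_apply] at e ⊢
    simpa [Subgroup.mem_comap] using e
  have hQ : Function.Bijective Q := ⟨fun a b e => by
    obtain ⟨a, rfl⟩ := QuotientGroup.mk_surjective a
    obtain ⟨b, rfl⟩ := QuotientGroup.mk_surjective b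
    exact QuotientGroup.eq.2 (by simpa [Subgroup.mem_comap] using QuotientGroup.eq.1 e), fun a => by
    obtain ⟨a, rfl⟩ := QuotientGroup.mk_surjective a
    obtain ⟨b, hb⟩ := hf a
    exact ⟨b, QuotientGroup.eq.2 hb⟩⟩
  rw [fix_def, fix_def]
  refine congrArg _ (Nat.card_congr ((Equiv.ofBijective Q hQ).subtypeEquiv fun a => ?_)).symm
  obtain ⟨a, rfl⟩ := QuotientGroup.mk_surjective a
  rw [MulAction.mem_fixedBy, MulAction.mem_fixedBy, ← hQ.1.eq_iff]
  exact Eq.congr_left (congrArg QuotientGroup.mk (map_mul f h a))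

omit [Fintype F] [Fintype (SLn n F)] in
theorem exists_dg (hn : 0 < n) (u : Fˣ) : ∃ d : GL (Fin n) F, Matrix.GeneralLinearGroup.det d = u ∧
    ∀ τ, (pm F τ)⁻¹ * d * pm F τ ∈ upperTriangularGL n F := by
  have e : (Matrix.diagonal (Function.update 1 ⟨0, hn⟩ (u : F)) : Matrix (Fin n) (Fin n) F).det = u := by
    simp [Matrix.det_diagonal, Finset.prod_update_of_mem]
  refine ⟨Matrix.GeneralLinearGroup.mkOfDetNeZero _ (e.trans_ne u.ne_zero), Units.ext e, fun τ i j h => ?_⟩
  rw [← map_inv, Units.val_mul, mul_pm_apply, Units.val_mul]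
  change (_ * Matrix.diagonal _ : Matrix (Fin n) (Fin n) F) _ _ = 0
  rw [Matrix.mul_diagonal, pm_apply, if_neg (by simpa using h.ne), zero_mul]

omit [Fintype F] [Fintype (SLn n F)] in
theorem exists_sl {g : GL (Fin n) F} (h : Matrix.GeneralLinearGroup.det g = 1) :
    ∃ s : SLn n F, Matrix.SpecialLinearGroup.toGL s = g :=
  ⟨⟨g, congrArg Units.val h⟩, Units.ext rfl⟩

omit [Fintype F] [Fintype (SLn n F)] in
theorem det_sl (s : SLn n F) :
    Matrix.GeneralLinearGroup.det (Matrix.SpecialLinearGroup.toGL s) = 1 := Units.ext s.2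

omit [Fintype F] [Fintype (SLn n F)] in

/-- `GL = SL · P` (`P` contains the diagonal matrices; `0 < n`), so `SL ⧸ P.comap toGL ≃ GL ⧸ P`
equivariantly. -/
theorem fx_eq (hn : 0 < n) (α : Fin n → ℕ) : fx n F α =
    fixedPointCharacter ((parabolicGL n F α).comap Matrix.SpecialLinearGroup.toGL) := by
  refine funext fun s => fix_comap _ _ (fun g => ?_) s
  obtain ⟨d, d1, d2⟩ := exists_dg hn (Matrix.GeneralLinearGroup.det g)
  obtain ⟨s, hs⟩ := exists_sl (g := g * d⁻¹) (by simp [d1])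
  exact ⟨s, by simpa [hs] using upper_le_parabolicGL α (d2 1)⟩

/-- As `sum_fix_parabolic` / `inner_fix_fix`, with `fx_eq` and `sum_fix_mul_fix` for `SL` and
`Φ g = rk _ _ g`.  If `g' = h g k` in `GL` with `g, g' ∈ SL`, write `g = b (pm σ) b'` (`exists_bruhat`) and
take a diagonal `d` with `det d = (det h)⁻¹`: `h' = h b d b⁻¹`, `k' = b'⁻¹ (pm σ)⁻¹ d⁻¹ (pm σ) b' k` lie in
the parabolics (`(pm σ)⁻¹ d⁻¹ (pm σ)` is diagonal) and have determinant 1.  Range: `pm σ * d ∈ SL`
for a diagonal `d`, `rk_mul`, `rk_pm`. -/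
theorem inner_fx (hn : 0 < n) (hα : ∑ i, α i = n) (hβ : ∑ i, β i = n) :
    classInner (fx n F α) (fx n F β) = nMat α β := by
  have e : ∀ g, starRingEnd ℂ (fx n F β g) = fx n F β g := fun g => map_natCast _ _
  rw [classInner_def]
  simp only [e]
  rw [fx_eq hn, fx_eq hn, sum_fix_mul_fix _ _ (fun g : SLn n F => rk (compLabel α) (compLabel β)
    ((Matrix.SpecialLinearGroup.toGL g : GL (Fin n) F) : Matrix (Fin n) (Fin n) F)),
    inv_mul_cancel_left₀ (Nat.cast_ne_zero.2 Nat.card_pos.ne'), ← card_range_cnt hα hβ]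
  · congr 3
    ext t
    constructor
    · rintro ⟨g, rfl⟩
      obtain ⟨σ, -, -, -, -, -, e⟩ := exists_rk_eq α β (Matrix.SpecialLinearGroup.toGL g)
      exact ⟨σ, e.symm⟩
    · rintro ⟨σ, rfl⟩
      obtain ⟨d, d1, d2⟩ := exists_dg hn (Matrix.GeneralLinearGroup.det (pm F σ))⁻¹
      obtain ⟨s, hs⟩ := exists_sl (g := 1 * pm F σ * d) (by simp [d1])
      exact ⟨s, by
        simp only [hs]
        rw [rk_mul (one_mem _) (by simpa using upper_le_parabolicGL β (d2 1)), rk_pm]⟩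
  · intro g g'
    refine ⟨fun e => ?_, ?_⟩
    swap
    · rintro ⟨h, hh, k, hk, rfl⟩
      simp only [map_mul]
      exact (rk_mul hh hk _).symm
    obtain ⟨σ, h, hh, k, hk, r, e1⟩ := exists_rk_eq α β (Matrix.SpecialLinearGroup.toGL g)
    obtain ⟨σ', h', hh', k', hk', r', e2⟩ := exists_rk_eq α β (Matrix.SpecialLinearGroup.toGL g')
    obtain ⟨u, hu, v, hv, rfl⟩ := cnt_eq_iff.1 (e1.symm.trans (e.trans e2))
    obtain ⟨d, d1, d2⟩ := exists_dg hn (Matrix.GeneralLinearGroup.det (h' * pm F u * h⁻¹))⁻¹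
    obtain ⟨s, hs⟩ := exists_sl (g := h' * pm F u * d * h⁻¹) (by
      simp only [map_mul, d1, map_inv]
      rw [mul_right_comm, mul_inv_cancel])
    refine ⟨s, ?_, (s * g)⁻¹ * g', ?_, by group⟩
    · rw [Subgroup.mem_comap, hs]
      exact mul_mem (mul_mem (mul_mem hh' (blockTriangular_pm hu))
        (by simpa using upper_le_parabolicGL α (d2 1))) (inv_mem hh)
    · rw [Subgroup.mem_comap, map_mul, map_inv, map_mul, hs, r, r', map_mul, map_mul,
        show (h' * pm F u * d * h⁻¹ * (h * pm F σ * k))⁻¹ * (h' * (pm F u * pm F σ * pm F v) * k') =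
          k⁻¹ * ((pm F σ)⁻¹ * d * pm F σ)⁻¹ * pm F v * k' by group]
      exact mul_mem (mul_mem (mul_mem (inv_mem hk) (inv_mem (upper_le_parabolicGL β (d2 σ))))
        (blockTriangular_pm hv)) hk'

/-- Transitivity (`fx_eq`, Burnside). -/
theorem inner_fx_one (hn : 0 < n) (α : Fin n → ℕ) : classInner (fx n F α) (fun _ => 1) = 1 := by
  rw [fx_eq hn, show fixedPointCharacter ((parabolicGL n F α).comap Matrix.SpecialLinearGroup.toGL) =
    indFun _ fun _ => 1 from funext fun g => (Induce.indFun_one_eq_card_fixedBy _ g).symm]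
  have := Fintype.ofFinite ((parabolicGL n F α).comap (Matrix.SpecialLinearGroup.toGL (n := Fin n)))
  exact (Induce.frobenius_reciprocity _ _ isClassFunction_one).trans isIrrCharacter_one.inner_self

theorem qf_mod (q r : ℕ) : qf q r ≡ 1 [MOD q] := by
  induction r with
  | zero => rfl
  | succ r ih =>
    rw [qf, prod_range_succ, ← qf, add_comm, qi_add]
    simpa [qi] using ih.mul (show 1 + q * qi q r ≡ 1 [MOD q] by simp [Nat.ModEq])

omit [Fintype (SLn n F)] in

/-- `card_quotient_mul`, `qf q r ≡ 1 mod q`. -/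
theorem fx_one (hα : ∑ i, α i = n) : ∃ m : ℤ, fx n F α 1 = 1 + (Fintype.card F : ℂ) * m := by
  have h := card_quotient_mul (F := F) hα
  have h1 : ∏ i, qf (Fintype.card F) (α i) ≡ 1 [MOD Fintype.card F] :=
    Nat.ModEq.prod_one fun i _ => qf_mod _ _
  have h2 := (h1.mul_left (Nat.card (GL (Fin n) F ⧸ parabolicGL n F α))).symm
  rw [h, mul_one] at h2
  obtain ⟨m, hm⟩ := (h2.trans (qf_mod _ _)).symm.dvd
  refine ⟨m, ?_⟩
  rw [fx, map_one, fix_apply_one, ← sub_eq_iff_eq_add']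
  exact_mod_cast hm

theorem nMat_perm (α β : Fin n → ℕ) (σ τ : Equiv.Perm (Fin n)) :
    nMat (α ∘ σ) (β ∘ τ) = nMat α β := by
  refine (Nat.card_congr ((σ.symm.arrowCongr (τ.symm.arrowCongr (Equiv.refl ℕ))).subtypeEquiv
    fun M => ?_)).symm
  simp only [Equiv.arrowCongr_apply, Equiv.symm_symm, Function.comp_apply, Equiv.coe_refl, id]
  rw [← σ.forall_congr_right, ← τ.forall_congr_right (q := fun t => ∑ r, M r t = β t)]
  refine and_congr (forall_congr' fun r => ?_) (forall_congr' fun t => ?_)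
  · rw [Equiv.sum_comp τ (M (σ r))]
  · rw [Equiv.sum_comp σ fun r => M r (τ t)]

/-- `nMat` is invariant under permutations of the margins, so the difference has norm `0`. -/
theorem fx_perm (hn : 0 < n) (hα : ∑ i, α i = n) (σ : Equiv.Perm (Fin n)) :
    fx n F (α ∘ σ) = fx n F α := by
  have h : ∑ i, (α ∘ σ) i = n := (Equiv.sum_comp σ α).trans hα
  have e1 := nMat_perm α α σ 1
  have e2 := nMat_perm α α 1 σ
  simp only [Equiv.Perm.coe_one, Function.comp_id] at e1 e2
  rw [← sub_eq_zero, ← classInner_self_eq_zero_iff, classInner_sub_left, classInner_sub_right,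
    classInner_sub_right, inner_fx hn h h, inner_fx hn h hα, inner_fx hn hα h, inner_fx hn hα hα,
    nMat_perm, e1, e2, sub_self]

variable (n F) in
/-- The characters attached to partitions, restricted to `SL`. -/
noncomputable def un (ν : Fin n → ℕ) : SLn n F → ℂ := fun g =>
  unipotentCharacterGL n F ν (Matrix.SpecialLinearGroup.toGL g)

omit [Fintype F] [Fintype (SLn n F)] in
theorem un_eq (ν : Fin n → ℕ) : un n F ν = ∑ κ : Equiv.Perm (Fin n),
    if ∀ i : Fin n, (κ i : ℕ) ≤ ν i + i then ((Equiv.Perm.sign κ : ℤ) : ℂ) •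
      fx n F (fun i => ν i + i - κ i) else 0 := by
  ext g
  simp only [Finset.sum_apply, ite_apply, Pi.smul_apply, smul_eq_mul, Pi.zero_apply]
  rfl

/-- Copy `inner_unipotent` with `inner_fx`. -/
theorem inner_un (hn : 0 < n) (hm : Monotone ν) (h : ∑ i, ν i = n) (hm' : Monotone ν')
    (h' : ∑ i, ν' i = n) : classInner (un n F ν) (un n F ν') = if ν = ν' then 1 else 0 := by
  have key := congrArg (Int.cast : ℤ → ℂ) (sum_sign_nMat (strictMono_add hm) (strictMono_add hm'))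
  have e : ((fun i : Fin n => ν i + i) = fun i : Fin n => ν' i + i) ↔ ν = ν' := by
    simp [funext_iff]
  simp only [e] at key
  push_cast at key
  rw [← key, un_eq, un_eq, classInner_sum_left]
  refine sum_congr rfl fun κ _ => ?_
  rw [classInner_sum_right]
  refine sum_congr rfl fun κ' _ => ?_
  by_cases h1 : ∀ i : Fin n, (κ i : ℕ) ≤ ν i + i
  · by_cases h2 : ∀ i : Fin n, (κ' i : ℕ) ≤ ν' i + i
    · rw [if_pos h1, if_pos h2, if_pos ⟨h1, h2⟩, classInner_smul_left, classInner_smul_right,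
        inner_fx hn (sum_sub_eq h h1) (sum_sub_eq h' h2), map_intCast, mul_assoc]
    · rw [if_neg h2, classInner_zero_right, if_neg fun e => h2 e.2]
  · rw [if_neg h1, classInner_zero_left, if_neg fun e => h1 e.1]

theorem sq_lt (hm : Monotone ν) {κ : Equiv.Perm (Fin n)} (h1 : κ ≠ 1)
    (hκ : ∀ i : Fin n, (κ i : ℕ) ≤ ν i + i) :
    ∑ i, ν i ^ 2 < ∑ i : Fin n, (ν i + i - κ i) ^ 2 := by
  have hs : StrictMono fun i : Fin n => (ν i : ℤ) + i := fun a b e => by
    have := strictMono_add hm e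
    dsimp only at this ⊢
    exact_mod_cast this
  have hv : Monovary (fun i : Fin n => (ν i : ℤ) + i) fun i : Fin n => ((i : ℕ) : ℤ) :=
    fun i j e => hs.monotone (by simpa using e.le)
  have h2 := (hv.sum_mul_comp_perm_lt_sum_mul_iff (σ := κ)).2 fun k =>
    h1 ((Equiv.Perm.monotone_iff κ).1 fun i j e => not_lt.1 fun l =>
      (e.lt_of_ne fun r => l.ne (by rw [r])).not_ge
        (hs.le_iff_le.1 (k (i := j) (j := i) (by simpa using l))))
  have h3 := Equiv.sum_comp κ fun i : Fin n => ((i : ℕ) : ℤ) ^ 2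
  zify [hκ]
  have e1 : ∑ i, (ν i : ℤ) ^ 2 = ∑ i : Fin n, ((ν i : ℤ) + i) ^ 2 -
      2 * ∑ i : Fin n, ((ν i : ℤ) + i) * i + ∑ i : Fin n, ((i : ℕ) : ℤ) ^ 2 := by
    rw [mul_sum, ← sum_sub_distrib, ← sum_add_distrib]
    exact sum_congr rfl fun i _ => by ring
  have e2 : ∑ i : Fin n, ((ν i : ℤ) + i - κ i) ^ 2 = ∑ i : Fin n, ((ν i : ℤ) + i) ^ 2 -
      2 * ∑ i : Fin n, ((ν i : ℤ) + i) * κ i + ∑ i : Fin n, ((κ i : ℕ) : ℤ) ^ 2 := by
    rw [mul_sum, ← sum_sub_distrib, ← sum_add_distrib]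
    exact sum_congr rfl fun i _ => by ring
  rw [e1, e2, h3]
  omega

/-- Downward induction on `∑ α i ^ 2 ≤ n ^ 2`.  Sort `α` (`Tuple.sort`, `fx_perm`) to a monotone `ν`.
In `un_eq` the term `κ = 1` is `fx ν`; for `κ ≠ 1`, `β i = ν i + i - κ i` has `∑ β = n` (`sum_sub_eq`) and
`∑ β ^ 2 > ∑ ν ^ 2`: with `λ i = ν i + i` strictly monotone, `∑ λ i * κ i < ∑ λ i * i` (strict
rearrangement inequality, `Monovary.sum_mul_comp_perm_lt_sum_mul_iff`; a monotone permutation is `1`). -/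
theorem fx_mem_span (hn : 0 < n) (hα : ∑ i, α i = n) : fx n F α ∈
    Submodule.span ℂ {θ | ∃ ν : Fin n → ℕ, Monotone ν ∧ ∑ i, ν i = n ∧ θ = un n F ν} := by
  obtain ⟨k, hk⟩ : ∃ k, n ^ 2 - ∑ i, α i ^ 2 = k := ⟨_, rfl⟩
  induction k using Nat.strong_induction_on generalizing α with
  | _ k ih =>
  have hm := Tuple.monotone_sort α
  have h1 : ∑ i, (α ∘ Tuple.sort α) i = n := (Equiv.sum_comp _ α).trans hα
  have h2 : ∑ i, (α ∘ Tuple.sort α) i ^ 2 = ∑ i, α i ^ 2 :=
    Equiv.sum_comp (Tuple.sort α) fun i => α i ^ 2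
  rw [← fx_perm hn hα (Tuple.sort α)]
  generalize α ∘ Tuple.sort α = ν at hm h1 h2
  have e := un_eq (F := F) ν
  rw [← add_sum_erase _ _ (mem_univ 1), if_pos (by simp), ← sub_eq_iff_eq_add] at e
  simp only [Equiv.Perm.sign_one, Units.val_one, Int.cast_one, one_smul, Equiv.Perm.coe_one, id,
    Nat.add_sub_cancel] at e
  change _ = fx n F ν at e
  rw [← e]
  refine sub_mem (Submodule.subset_span ⟨ν, hm, h1, rfl⟩) (sum_mem fun κ hκ => ?_)
  split_ifs with h
  · have h3 := sq_lt hm (ne_of_mem_erase hκ) h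
    have h4 := sum_sq_le_sq_sum_of_nonneg (s := univ) (f := fun i : Fin n => ν i + i - κ i)
      fun _ _ => Nat.zero_le _
    rw [sum_sub_eq h1 h] at h4
    exact Submodule.smul_mem _ _ (ih _ (by omega) (sum_sub_eq h1 h) rfl)
  · exact zero_mem _

/-- Some `un ν` has non-zero inner product with `θ` (`fx_mem_span`); it is a generalized character of
norm 1, so `un ν = ± θ`.  By `un_eq`, `fx_one`, `inner_fx_one`:
`un ν 1 ≡ ∑ sign κ = ⟨un ν, 1⟩ = ± ⟨θ, 1⟩ = 0 mod q`. -/
theorem dvd_degree (hn : 0 < n) (hα : ∑ i, α i = n) {θ : SLn n F → ℂ}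
    (hθ : IsIrrCharacter (SLn n F) θ) (h1 : θ ≠ fun _ => 1) (h : classInner θ (fx n F α) ≠ 0) :
    ∃ m : ℤ, θ 1 = (Fintype.card F : ℂ) * m := by
  obtain ⟨ν, hm, hs, hν⟩ : ∃ ν : Fin n → ℕ, Monotone ν ∧ ∑ i, ν i = n ∧
      classInner (un n F ν) θ ≠ 0 := by
    by_contra k
    push Not at k
    refine h (classInner_eq_zero_comm.1 (Submodule.span_induction
      (p := fun φ _ => classInner φ θ = 0) ?_ (by simp) ?_ ?_ (fx_mem_span hn hα)))
    · rintro _ ⟨ν, a, b, rfl⟩
      exact k ν a b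
    · intro x y _ _ a b
      rw [classInner_add_left, a, b, add_zero]
    · intro c x _ a
      rw [classInner_smul_left, a, mul_zero]
  have hg : IsGeneralizedCharacter _ (un n F ν) :=
    (isGen_unipotent ν).comp Matrix.SpecialLinearGroup.toGL
  have h0 := hθ.inner_eq_zero_of_ne isIrrCharacter_one h1
  have key : ∃ m : ℤ, un n F ν 1 = classInner (un n F ν) (fun _ => 1) + Fintype.card F * m := by
    rw [un_eq, classInner_sum_left, Finset.sum_apply]
    refine Finset.induction_on (univ : Finset (Equiv.Perm (Fin n))) ⟨0, by simp⟩ ?_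
    rintro κ s hκ ⟨m, hm⟩
    rw [sum_insert hκ, sum_insert hκ, hm]
    split_ifs with k
    · obtain ⟨r, hr⟩ := fx_one (F := F) (sum_sub_eq hs k)
      refine ⟨m + Equiv.Perm.sign κ * r, ?_⟩
      rw [classInner_smul_left, inner_fx_one hn, Pi.smul_apply, hr, smul_eq_mul]
      push_cast
      ring
    · exact ⟨m, by simp⟩
  obtain ⟨m, hm'⟩ := key
  rcases hg.irr_or_neg_irr_of_inner_self (by rw [inner_un hn hm hs hm hs, if_pos rfl]) with k | k
  · rw [k.eq_of_inner_ne_zero hθ hν, h0, zero_add] at hm'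
    exact ⟨m, hm'⟩
  · have e := k.eq_of_inner_ne_zero hθ (by rwa [classInner_neg_left, neg_ne_zero])
    rw [neg_eq_iff_eq_neg.1 e, classInner_neg_left, h0, Pi.neg_apply] at hm'
    exact ⟨-m, by push_cast; linear_combination -hm'⟩

end Cfsg.Lib.RK3
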