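import Cfsg.Agent.Lib.RK3.Cb
import Cfsg.Agent.Lib.CharDeg.PermChar

/-! S2194: the numbers of orbits of a point stabiliser on flags. -/

set_option autoImplicit false

namespace Cfsg.Lib.RK3

open Finset MulAction Cfsg.Lib.Char Cfsg.Lib.PermChar
open scoped Pointwise

section gen

variable {G X Y : Type*} [Group G] [Fintype G] [Fintype X] [Fintype Y] [MulAction G X]
  [MulAction G Y] [IsPretransitive G X]

/-- As `inner_pc_self` (`pc G X * pc G Y = pc G (X × Y)`, orbits of `G` on `X × Y` correspond to orbits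
of the stabiliser on `Y`). -/
theorem inner_pc_pc (x : X) :
    classInner (pc G X) (pc G Y) = Nat.card (orbitRel.Quotient (stabilizer G x) Y) := by
  have := Fintype.ofFinite (stabilizer G x)
  rw [(isCharacter_card_fixedBy X).inner_comm (isCharacter_card_fixedBy Y), ← inner_pc_one,
    show (fun g : G => (Nat.card (fixedBy X g) : ℂ)) = indFun (stabilizer G x) fun _ => 1 from
      funext fun g => (Induce.indFun_stabilizer_one X x g).symm]
  exact Induce.frobenius_reciprocity' _ _ (isCharacter_card_fixedBy Y).isClassFunction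

/-- `pc = ∑ m_θ θ` (`exists_eq_sum_nat`) with `∑ m_θ ^ 2 = 3` and `m_1 = 1`. -/
theorem rank_three (x : X) (h : Nat.card (orbitRel.Quotient (stabilizer G x) X) = 3) :
    ∃ χ ψ : G → ℂ, IsIrrCharacter G χ ∧ IsIrrCharacter G ψ ∧ χ ≠ (fun _ => 1) ∧ ψ ≠ (fun _ => 1) ∧
      pc G X = (fun _ => 1) + χ + ψ := by
  have hπ : IsCharacter G (pc G X) := isCharacter_card_fixedBy X
  have h1 : IsIrrCharacter G fun _ => 1 := isIrrCharacter_one
  have i1 := inner_pc_one_of_trans (G := G) x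
  have i3 := inner_pc_self (G := G) x
  have hs := hπ.sub_irr h1 (by rw [i1]; simp)
  have s1 : classInner (pc G X - fun _ => 1) (fun _ => 1) = 0 := by
    rw [classInner_sub_left, i1, h1.inner_self, sub_self]
  have s2 : classInner (pc G X - fun _ => 1) (pc G X - fun _ => 1) = 2 := by
    rw [classInner_sub_right, s1, classInner_sub_left, i3, h, h1.isCharacter.inner_comm hπ, i1]
    norm_num
  obtain ⟨χ, ψ, hχ, hψ, e⟩ := hs.exists_irr_add fun e => by simp [e] at s2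
  rw [e] at s1 s2
  obtain ⟨a, ha⟩ := hψ.exists_inner_eq_nat hχ.isCharacter
  obtain ⟨b, hb⟩ := hψ.exists_inner_eq_nat hψ
  obtain ⟨c, hc⟩ := hχ.isCharacter.exists_inner_eq_nat h1.isCharacter
  obtain ⟨d, hd⟩ := hψ.exists_inner_eq_nat h1.isCharacter
  rw [classInner_add_left, hc, hd] at s1
  rw [classInner_add_left, classInner_add_right, classInner_add_right, hχ.inner_self,
    hχ.isCharacter.inner_comm hψ, ha, hb] at s2
  have t1 : c + d = 0 := by exact_mod_cast s1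
  have t2 : 1 + a + (a + b) = 2 := by exact_mod_cast s2
  have hψ' := hψ.isIrrCharacter_of_inner_self (by rw [hb, show b = 1 by omega, Nat.cast_one])
  refine ⟨χ, ψ, hχ, hψ', fun k => ?_, fun k => ?_, by rw [add_assoc, ← e, add_sub_cancel]⟩
  · rw [k, h1.inner_self, show c = 0 by omega] at hc
    simp at hc
  · rw [k, h1.inner_self, show d = 0 by omega] at hd
    simp at hd

omit [Fintype X] [Fintype Y] [MulAction G X] [MulAction G Y] [IsPretransitive G X] in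
/-- A generalized character of norm `1` is `± θ'`, `θ'` irreducible. -/
theorem eq_of_norm_one {γ θ : G → ℂ} (hγ : IsGeneralizedCharacter G γ) (h1 : classInner γ γ = 1)
    (hθ : IsIrrCharacter G θ) (h : classInner γ θ ≠ 0) : θ = γ ∨ θ = -γ := by
  rcases hγ.irr_or_neg_irr_of_inner_self h1 with k | k
  · exact Or.inl (k.eq_of_inner_ne_zero hθ h).symm
  · exact Or.inr (k.eq_of_inner_ne_zero hθ (by rwa [classInner_neg_left, neg_ne_zero])).symm

end gen

section conv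

variable {F V Γ : Type*} [Field F] [AddCommGroup V] [Module F V] [Finite V] [Group Γ]
  [DistribMulAction Γ V] [SMulCommClass Γ F V]

/-- `nOrb_congr` for `U ↦ U.2.2` (`finrank_eq_zero`). -/
theorem o3_o1 (c : ℕ) : o3 F V Γ 0 0 c = o1 F V Γ c := by
  refine nOrb_congr (fun U => U.2.2) (fun _ _ => rfl) (iv3 0 0 c) ⟨fun U h => h.2.2.2.2, ?_, ?_⟩
  · rintro ⟨A, B, C⟩ h ⟨A', B', C'⟩ h' e
    have : Module.Finite F V := Module.Finite.of_finite
    exact Prod.ext ((Submodule.finrank_eq_zero.1 h.2.2.1).trans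
      (Submodule.finrank_eq_zero.1 h'.2.2.1).symm) (Prod.ext ((Submodule.finrank_eq_zero.1
        h.2.2.2.1).trans (Submodule.finrank_eq_zero.1 h'.2.2.2.1).symm) e)
  · exact fun C h => ⟨(⊥, ⊥, C), ⟨le_rfl, bot_le, finrank_bot _ _, finrank_bot _ _, h⟩, rfl⟩

theorem o3_o2 (b c : ℕ) : o3 F V Γ 0 b c = o2 F V Γ b c := by
  refine nOrb_congr (fun U => U.2) (fun _ _ => rfl) (iv3 0 b c)
    ⟨fun U h => ⟨h.2.1, h.2.2.2⟩, ?_, ?_⟩
  · rintro ⟨A, B⟩ h ⟨A', B'⟩ h' e
    have : Module.Finite F V := Module.Finite.of_finite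
    exact Prod.ext ((Submodule.finrank_eq_zero.1 h.2.2.1).trans
      (Submodule.finrank_eq_zero.1 h'.2.2.1).symm) e
  · exact fun C h => ⟨(⊥, C), ⟨bot_le, h.1, finrank_bot _ _, h.2⟩, rfl⟩

end conv

variable {n : ℕ} {F : Type*} [Field F] [Fintype F] [Fintype (SLn n F)] {X : Type*} [Fintype X]
  [MulAction (SLn n F) X] [IsPretransitive (SLn n F) X]

/-- `inner_pc_pc`, `nOrb_eq_card`; the two actions of the stabiliser on flags agree. -/
theorem inner_rho (x : X) (a b c : ℕ) : classInner (pc (SLn n F) X) (rho n F a b c) =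
    o3 F (Fin n → F) (stabilizer (SLn n F) x) a b c := by
  have := Fintype.ofFinite (iv3 (F := F) (V := Fin n → F) (Γ := SLn n F) a b c).sub
  rw [o3, nOrb_eq_card (iv3 a b c)]
  exact inner_pc_pc (Y := (iv3 (F := F) (V := Fin n → F) (Γ := SLn n F) a b c).sub) x

theorem adm_dm (hn : 5 ≤ n) (j : Fin 11) : Adm n (dm j).1 (dm j).2.1 (dm j).2.2 := by
  have h : ∀ j, (dm j).1 ≤ (dm j).2.1 ∧ (dm j).2.1 ≤ (dm j).2.2 ∧ (dm j).2.2 ≤ 4 := by decide
  exact ⟨by omega, (h j).1, (h j).2.1, (h j).2.2.trans (by omega)⟩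

/-- The eleven flag characters. -/
noncomputable abbrev rj (n : ℕ) (F : Type*) [Field F] (j : Fin 11) : SLn n F → ℂ :=
  rho n F (dm j).1 (dm j).2.1 (dm j).2.2

/-- `rho_eq`, `inner_fx`, `nMat_cmp`. -/
theorem inner_rj (hn : 5 ≤ n) (i j : Fin 11) : classInner (rj n F i) (rj n F j) = gm n i j := by
  rw [rj, rj, rho_eq (adm_dm hn i), rho_eq (adm_dm hn j),
    inner_fx (by omega) (adm_dm hn i).sum (adm_dm hn j).sum, nMat_cmp (adm_dm hn i) (adm_dm hn j), gm]

theorem isChar_rj (hn : 5 ≤ n) (j : Fin 11) : IsCharacter (SLn n F) (rj n F j) := by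
  rw [rj, rho_eq (adm_dm hn j)]
  exact isChar_fx _

theorem rj_one (hn : 5 ≤ n) (j : Fin 11) : classInner (rj n F j) (fun _ => 1) = 1 := by
  rw [rj, rho_eq (adm_dm hn j)]
  exact inner_fx_one (by omega) _

theorem rj_zero (hn : 5 ≤ n) : rj n F 0 = fun _ => 1 := by
  have h := (isChar_rj (F := F) hn 0).isIrrCharacter_of_inner_self (by
    rw [inner_rj hn, gm, show dm 0 = (0, 0, 0) from rfl]
    simp [gr_one])
  exact h.eq_of_inner_ne_zero isIrrCharacter_one (by rw [rj_one hn]; simp)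

/-- `m j = ⟨χ, rj j⟩ ∈ ℕ`; `rj 0 = 1` (one flag).  For `γ = ∑ c i • rj i`: `⟨γ, rj j⟩ = bm n c j`,
`⟨γ, γ⟩ = ∑ c j * bm n c j`, `⟨χ, γ⟩ = ∑ c j * m j`; `classInner_self_eq_zero_iff`, `eq_of_norm_one`. -/
theorem exists_mult (hn : 5 ≤ n) {χ : SLn n F → ℂ} (hχ : IsIrrCharacter (SLn n F) χ)
    (h1 : χ ≠ fun _ => 1) : ∃ m : Fin 11 → ℤ, (∀ j, classInner χ (rj n F j) = m j) ∧ m 0 = 0 ∧
      (∀ j, 0 ≤ m j) ∧ (∀ c, ∑ j, c j * bm n c j = 0 → ∑ j, c j * m j = 0) ∧
      ∀ c, ∑ j, c j * bm n c j = 1 → ∑ j, c j * m j ≠ 0 → m = bm n c ∨ m = -bm n c := by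
  choose m hm using fun j => hχ.isCharacter.exists_inner_eq_nat (isChar_rj (F := F) hn j)
  let γ : (Fin 11 → ℤ) → SLn n F → ℂ := fun c => ∑ i, (c i : ℂ) • rj n F i
  have g0 : ∀ c, IsGeneralizedCharacter _ (γ c) := fun c =>
    isGeneralizedCharacter_sum _ _ fun i _ => (isChar_rj hn i).isGeneralizedCharacter.intCast_smul _
  have g1 : ∀ c j, classInner (γ c) (rj n F j) = bm n c j := fun c j => by
    simp only [γ, classInner_sum_left, classInner_smul_left, inner_rj hn, bm]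
    push_cast
    rfl
  have g2 : ∀ c, classInner (γ c) (γ c) = (∑ j, c j * bm n c j : ℤ) := fun c => by
    conv_lhs => enter [2]; simp only [γ]
    simp only [classInner_sum_right, classInner_smul_right, g1, map_intCast]
    push_cast
    rfl
  have g3 : ∀ c, classInner (γ c) χ = (∑ j, c j * (m j : ℤ) : ℤ) := fun c => by
    simp only [γ, classInner_sum_left, classInner_smul_left,
      (isChar_rj hn _).inner_comm hχ.isCharacter, hm]
    push_cast
    rfl
  refine ⟨fun j => m j, fun j => by rw [hm]; simp, ?_, fun j => Int.natCast_nonneg _,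
    fun c h => ?_, fun c h h' => ?_⟩
  · have := hm 0
    rw [rj_zero hn, hχ.inner_eq_zero_of_ne isIrrCharacter_one h1] at this
    change (m 0 : ℤ) = 0
    exact_mod_cast this.symm
  · have e := g3 c
    rw [classInner_self_eq_zero_iff.1 ((g2 c).trans (by rw [h]; simp)), classInner_zero_left] at e
    exact_mod_cast e.symm
  · refine (eq_of_norm_one (g0 c) ((g2 c).trans (by rw [h]; simp)) hχ
      (by rw [g3]; exact_mod_cast h')).imp (fun e => funext fun j => ?_) fun e => funext fun j => ?_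
    · have := hm j
      rw [e, g1] at this
      exact_mod_cast this.symm
    · have := hm j
      rw [e, classInner_neg_left, g1] at this
      exact_mod_cast this.symm

/-- `pc = 1 + χ + ψ`.  If both `χ` and `ψ` meet some `rj`, then `q` divides both degrees (`dvd_degree`)
and `|X| ≡ 1 mod p`.  So wlog `ψ` is orthogonal to all `rj`; `⟨1, rj j⟩ = 1` (`inner_fx_one`). -/
theorem exists_chi (hn : 5 ≤ n) (x : X)
    (h : Nat.card (orbitRel.Quotient (stabilizer (SLn n F) x) X) = 3) {p : ℕ} (hp : p.Prime)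
    (hq : p ∣ Fintype.card F) (hX : p ∣ Fintype.card X) :
    ∃ χ : SLn n F → ℂ, IsIrrCharacter (SLn n F) χ ∧ χ ≠ (fun _ => 1) ∧ ∀ j : Fin 11,
      (o3 F (Fin n → F) (stabilizer (SLn n F) x) (dm j).1 (dm j).2.1 (dm j).2.2 : ℂ) =
        1 + classInner χ (rj n F j) := by
  obtain ⟨χ, ψ, hχ, hψ, n1, n2, e⟩ := rank_three x h
  have key : ∀ j : Fin 11,
      (o3 F (Fin n → F) (stabilizer (SLn n F) x) (dm j).1 (dm j).2.1 (dm j).2.2 : ℂ) =
        1 + classInner χ (rj n F j) + classInner ψ (rj n F j) := fun j => by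
    rw [← inner_rho, e, classInner_add_left, classInner_add_left,
      isCharacter_one.inner_comm (isChar_rj hn j), rj_one hn]
  have dv : ∀ {θ : SLn n F → ℂ}, IsIrrCharacter _ θ → θ ≠ (fun _ => 1) →
      (∃ j, classInner θ (rj n F j) ≠ 0) → ∃ m : ℤ, θ 1 = (Fintype.card F : ℂ) * m :=
    fun hθ ne ⟨j, hj⟩ => dvd_degree (by omega) (adm_dm hn j).sum hθ ne
      (by rwa [← rho_eq (adm_dm hn j)])
  by_cases k1 : ∃ j, classInner χ (rj n F j) ≠ 0
  swap
  · exact ⟨ψ, hψ, n2, fun j => by rw [key, not_not.1 fun k => k1 ⟨j, k⟩, add_zero]⟩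
  by_cases k2 : ∃ j, classInner ψ (rj n F j) ≠ 0
  swap
  · exact ⟨χ, hχ, n1, fun j => by rw [key, not_not.1 fun k => k2 ⟨j, k⟩, add_zero]⟩
  obtain ⟨a, ha⟩ := dv hχ n1 k1
  obtain ⟨b, hb⟩ := dv hψ n2 k2
  have e1 := congrFun e 1
  simp only [pc, fixedBy_one_eq_univ, Pi.add_apply, ha, hb, Nat.card_univ] at e1
  rw [Nat.card_eq_fintype_card] at e1
  have e2 : (Fintype.card X : ℤ) = 1 + Fintype.card F * (a + b) := by
    have : (Fintype.card X : ℂ) = 1 + Fintype.card F * (a + b) := by rw [e1]; ring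
    exact_mod_cast this
  have e3 : (p : ℤ) ∣ 1 := (Int.dvd_add_left ((Int.natCast_dvd_natCast.2 hq).mul_right (a + b))).1
    (e2 ▸ Int.natCast_dvd_natCast.2 hX)
  exact (hp.one_lt.ne' (Nat.dvd_one.1 (Int.natCast_dvd_natCast.1 e3))).elim

theorem orb_cases (hn : 5 ≤ n) (x : X)
    (h : Nat.card (orbitRel.Quotient (stabilizer (SLn n F) x) X) = 3) {p : ℕ} (hp : p.Prime)
    (hq : p ∣ Fintype.card F) (hX : p ∣ Fintype.card X) :
    let a := o1 F (Fin n → F) (stabilizer (SLn n F) x)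
    let b := o2 F (Fin n → F) (stabilizer (SLn n F) x)
    let c := o3 F (Fin n → F) (stabilizer (SLn n F) x)
    (a 1 = 2 ∧ a 2 = 2 ∧ b 1 2 = 3) ∨
    (a 1 = 1 ∧ a 2 = 2 ∧ a 3 = 2 ∧ b 1 3 = 3 ∧ c 1 2 3 = 4 ∧ (6 ≤ n → b 2 4 = 4)) ∨
    (a 2 = 1 ∧ b 1 2 = 2 ∧ a 3 = 1 ∧ b 1 3 = 2 ∧ b 2 3 = 2 ∧ c 1 2 3 = 4) ∨
    (b 1 2 = 1 ∧ a 3 = c 1 2 3) ∨ (b 1 2 = 1 ∧ a 3 = 1 ∧ b 1 3 = 2 ∧ b 2 3 = 2 ∧ c 1 2 3 = 3) ∨
    (b 1 4 = 1 ∧ b 2 4 = 1 ∧ c 1 2 4 = 2) := by
  intro a b c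
  obtain ⟨χ, hχ, h1, e⟩ := exists_chi hn x h hp hq hX
  obtain ⟨m, hm, m0, m1, H0, H1⟩ := exists_mult hn hχ h1
  have e' : ∀ j : Fin 11, (c (dm j).1 (dm j).2.1 (dm j).2.2 : ℤ) = 1 + m j := fun j => by
    have := e j
    rw [hm] at this
    exact_mod_cast this
  have e1 : (a 1 : ℤ) = 1 + m 1 := by rw [← e' 1]; exact congrArg _ (o3_o1 1).symm
  have e2 : (a 2 : ℤ) = 1 + m 2 := by rw [← e' 2]; exact congrArg _ (o3_o1 2).symm
  have e3 : (b 1 2 : ℤ) = 1 + m 3 := by rw [← e' 3]; exact congrArg _ (o3_o2 1 2).symm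
  have e4 : (a 3 : ℤ) = 1 + m 4 := by rw [← e' 4]; exact congrArg _ (o3_o1 3).symm
  have e5 : (b 1 3 : ℤ) = 1 + m 5 := by rw [← e' 5]; exact congrArg _ (o3_o2 1 3).symm
  have e6 : (b 2 3 : ℤ) = 1 + m 6 := by rw [← e' 6]; exact congrArg _ (o3_o2 2 3).symm
  have e7 : (c 1 2 3 : ℤ) = 1 + m 7 := e' 7
  have e8 : (b 1 4 : ℤ) = 1 + m 8 := by rw [← e' 8]; exact congrArg _ (o3_o2 1 4).symm
  have e9 : (b 2 4 : ℤ) = 1 + m 9 := by rw [← e' 9]; exact congrArg _ (o3_o2 2 4).symm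
  have e10 : (c 1 2 4 : ℤ) = 1 + m 10 := e' 10
  clear e e' hm
  generalize a 1 = a1, a 2 = a2, a 3 = a3, b 1 2 = b12, b 1 3 = b13, b 2 3 = b23, b 1 4 = b14,
    b 2 4 = b24, c 1 2 3 = c3, c 1 2 4 = c4 at *
  rcases mult_cases hn m m0 m1 H0 H1 with k | k | k | k | k | k
  · exact Or.inl (by omega)
  · exact Or.inr (Or.inl (by omega))
  · exact Or.inr (Or.inr (Or.inl (by omega)))
  · exact Or.inr (Or.inr (Or.inr (Or.inl (by omega))))
  · exact Or.inr (Or.inr (Or.inr (Or.inr (Or.inl (by omega)))))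
  · exact Or.inr (Or.inr (Or.inr (Or.inr (Or.inr (by omega)))))

end Cfsg.Lib.RK3
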