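import Mathlib

/-! Rank 3 actions of `PSL_n(q)` (S2194): orbit counts on invariant sets, flags of subspaces. -/

set_option autoImplicit false

namespace Cfsg.Lib.RK3

open Module Submodule MulAction
open scoped Pointwise

section orb

variable (Γ : Type*) {T : Type*} [Group Γ] [MulAction Γ T]

/-- `x` and `y` lie in the same orbit. -/
def Cj (x y : T) : Prop := ∃ g : Γ, g • x = y

/-- The number of orbits meeting `Y`. -/
noncomputable def nOrb (Y : Set T) : ℕ := (orbit Γ '' Y).ncard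

/-- Invariant sets. -/
def Iv (Y : Set T) : Prop := ∀ (g : Γ), ∀ y ∈ Y, g • y ∈ Y

variable {Γ}

theorem Cj.refl (x : T) : Cj Γ x x := ⟨1, one_smul _ _⟩

theorem Cj.symm {x y : T} (h : Cj Γ x y) : Cj Γ y x := by
  obtain ⟨g, rfl⟩ := h
  exact ⟨g⁻¹, inv_smul_smul _ _⟩

theorem Cj.trans {x y z : T} (h : Cj Γ x y) (k : Cj Γ y z) : Cj Γ x z := by
  obtain ⟨g, rfl⟩ := h
  obtain ⟨g', rfl⟩ := k
  exact ⟨g' * g, mul_smul _ _ _⟩

theorem cj_smul (g : Γ) (x : T) : Cj Γ x (g • x) := ⟨g, rfl⟩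

theorem cj_iff {x y : T} : Cj Γ x y ↔ orbit Γ x = orbit Γ y :=
  ⟨fun ⟨g, h⟩ => h ▸ (orbit_smul g x).symm, fun h => (h ▸ mem_orbit_self y : y ∈ orbit Γ x)⟩

theorem Iv.iff {Y : Set T} (h : Iv Γ Y) (g : Γ) {y : T} : g • y ∈ Y ↔ y ∈ Y :=
  ⟨fun k => by simpa using h g⁻¹ _ k, h g y⟩

theorem Iv.cj {Y : Set T} (h : Iv Γ Y) {x y : T} (k : Cj Γ x y) : x ∈ Y ↔ y ∈ Y := by
  obtain ⟨g, rfl⟩ := k
  exact (h.iff g).symm

theorem iv_cj (x : T) : Iv Γ {y | Cj Γ x y} := fun g y h => h.trans (cj_smul g y)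

/-- An invariant set as a type with an action. -/
def Iv.sub {Y : Set T} (h : Iv Γ Y) : SubMulAction Γ T := ⟨Y, fun g _ k => h g _ k⟩

end orb

variable (F V : Type*) [Field F] [AddCommGroup V] [Module F V]

/-- Subspaces of dimension `a`. -/
def G1 (a : ℕ) : Set (Submodule F V) := {U | finrank F U = a}

/-- Flags of dimensions `a, b`. -/
def G2 (a b : ℕ) : Set (Submodule F V × Submodule F V) :=
  {U | U.1 ≤ U.2 ∧ finrank F U.1 = a ∧ finrank F U.2 = b}

/-- Flags of dimensions `a, b, c`. -/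
def G3 (a b c : ℕ) : Set (Submodule F V × Submodule F V × Submodule F V) :=
  {U | U.1 ≤ U.2.1 ∧ U.2.1 ≤ U.2.2 ∧ finrank F U.1 = a ∧ finrank F U.2.1 = b ∧ finrank F U.2.2 = c}

/-- `1 + q + ⋯ + q ^ (k - 1)`. -/
def th (q k : ℕ) : ℕ := ∑ i ∈ Finset.range k, q ^ i

section act

variable (Γ : Type*) [Group Γ] [DistribMulAction Γ V] [SMulCommClass Γ F V]

/-- Orbits on `a`-subspaces. -/
noncomputable abbrev o1 (a : ℕ) : ℕ := nOrb Γ (G1 F V a)

/-- Orbits on flags of dimensions `a, b`. -/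
noncomputable abbrev o2 (a b : ℕ) : ℕ := nOrb Γ (G2 F V a b)

/-- Orbits on flags of dimensions `a, b, c`. -/
noncomputable abbrev o3 (a b c : ℕ) : ℕ := nOrb Γ (G3 F V a b c)

/-- A proper non-zero invariant subspace exists. -/
def Red : Prop := ∃ W : Submodule F V, W ≠ ⊥ ∧ W ≠ ⊤ ∧ ∀ g : Γ, g • W = W

/-- 2-transitivity on points. -/
def T2 : Prop := ∀ v w v' w' : V, LinearIndependent F ![v, w] → LinearIndependent F ![v', w'] →
  ∃ g : Γ, ∃ a b : F, g • v = a • v' ∧ g • w = b • w'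

/-- For some point `y` on a line `m`, the stabiliser of `y` and `m` is transitive on the other
points of `m`. -/
def L2 : Prop := ∃ y m : Submodule F V, y ≤ m ∧ finrank F y = 1 ∧ finrank F m = 2 ∧
  ∀ z z' : Submodule F V, z ≤ m → z' ≤ m → finrank F z = 1 → finrank F z' = 1 → z ≠ y → z' ≠ y →
    ∃ g : Γ, g • y = y ∧ g • z = z'

variable {F V Γ}

theorem mem_smul (g : Γ) {U : Submodule F V} {v : V} : g • v ∈ g • U ↔ v ∈ U :=
  ⟨fun h => by simpa using smul_mem_pointwise_smul _ g⁻¹ _ h, smul_mem_pointwise_smul _ _ _⟩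

theorem mem_smul' (g : Γ) {U : Submodule F V} {v : V} : v ∈ g • U ↔ g⁻¹ • v ∈ U := by
  rw [← mem_smul g (v := g⁻¹ • v), smul_inv_smul]

theorem smul_le (g : Γ) {U W : Submodule F V} : g • U ≤ g • W ↔ U ≤ W :=
  ⟨fun h _ hv => (mem_smul g).1 (h ((mem_smul g).2 hv)),
    fun h _ hv => (mem_smul' g).2 (h ((mem_smul' g).1 hv))⟩

theorem finrank_smul (g : Γ) (U : Submodule F V) : finrank F ↥(g • U) = finrank F U :=
  LinearEquiv.finrank_map_eq (DistribMulAction.toLinearEquiv F V g) U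

theorem smul_sup (g : Γ) (U W : Submodule F V) : g • (U ⊔ W) = g • U ⊔ g • W := smul_sup' g U W

theorem smul_inf (g : Γ) (U W : Submodule F V) : g • (U ⊓ W) = g • U ⊓ g • W := by
  ext v; simp only [mem_smul', mem_inf]

theorem smul_top (g : Γ) : g • (⊤ : Submodule F V) = ⊤ := by
  ext v; simp only [mem_smul', mem_top]

theorem smul_bot (g : Γ) : g • (⊥ : Submodule F V) = ⊥ := smul_bot' g

theorem smul_span_one (g : Γ) (v : V) : g • span F {v} = span F {g • v} := by
  rw [smul_span]; simp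

theorem iv1 (a : ℕ) : Iv Γ (G1 F V a) := fun g U h => (finrank_smul g U).trans h

theorem iv2 (a b : ℕ) : Iv Γ (G2 F V a b) := fun g U h =>
  ⟨(smul_le g).2 h.1, (finrank_smul g U.1).trans h.2.1, (finrank_smul g U.2).trans h.2.2⟩

theorem iv3 (a b c : ℕ) : Iv Γ (G3 F V a b c) := fun g U h =>
  ⟨(smul_le g).2 h.1, (smul_le g).2 h.2.1, (finrank_smul g U.1).trans h.2.2.1,
    (finrank_smul g U.2.1).trans h.2.2.2.1, (finrank_smul g U.2.2).trans h.2.2.2.2⟩

end act

variable {F V} [Finite V]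

instance finSub : Finite (Submodule F V) :=
  Finite.of_injective (fun U : Submodule F V => (U : Set V)) SetLike.coe_injective

/-- The subspaces between `A` and `U` of dimension `dim A + 1`. -/
noncomputable def up (A U : Submodule F V) : Finset (Submodule F V) :=
  (Set.toFinite {B | A ≤ B ∧ B ≤ U ∧ finrank F B = finrank F A + 1}).toFinset

theorem mem_up {A U B : Submodule F V} :
    B ∈ up A U ↔ A ≤ B ∧ B ≤ U ∧ finrank F B = finrank F A + 1 := Set.Finite.mem_toFinset _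

/-- The points (1-spaces) in `U`. -/
noncomputable def pts (U : Submodule F V) : Finset (Submodule F V) := up ⊥ U

theorem mem_pts {U y : Submodule F V} : y ∈ pts U ↔ y ≤ U ∧ finrank F y = 1 := by
  simp [pts, mem_up]

open Classical in
/-- The number of members of `D` in `up A U`. -/
noncomputable def cu (D : Set (Submodule F V)) (A U : Submodule F V) : ℕ :=
  ((up A U).filter (· ∈ D)).card

/-- The number of points of `U` in `D`. -/
noncomputable abbrev cn (D : Set (Submodule F V)) (U : Submodule F V) : ℕ := cu D ⊥ U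

end Cfsg.Lib.RK3
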