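import Cfsg.Agent.Lib.RK3.Def

/-! Counting orbits on invariant sets (S2194).  `nOrb Γ Y = (orbit Γ '' Y).ncard`, `cj_iff`. -/

set_option autoImplicit false

namespace Cfsg.Lib.RK3

open MulAction

variable {Γ T T' : Type*} [Group Γ] [MulAction Γ T] [MulAction Γ T'] [Finite T] [Finite T']
  {Y : Set T} {Y' : Set T'}

omit [Finite T] [Finite T'] in
theorem image_orbit (f : T → T') (hf : ∀ (g : Γ) x, f (g • x) = g • f x) (x : T) : f '' orbit Γ x = orbit Γ (f x) := by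
  ext w
  constructor
  · rintro ⟨_, ⟨g, rfl⟩, rfl⟩; exact ⟨g, (hf g x).symm⟩
  · rintro ⟨g, rfl⟩; exact ⟨_, ⟨g, rfl⟩, hf g x⟩

omit [Finite T] [Finite T'] in
theorem image_orbits (f : T → T') (hf : ∀ (g : Γ) x, f (g • x) = g • f x) (Y : Set T) :
    orbit Γ '' (f '' Y) = Set.image f '' (orbit Γ '' Y) := by
  simp only [Set.image_image, image_orbit f hf]

theorem orb_cnt {D : Set T} (hD : Iv Γ D) (hY : D ⊆ Y) (f : T → T') (hf : ∀ (g : Γ) x, f (g • x) = g • f x)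
    (t : ∀ x ∈ Y, ∀ y ∈ Y, Cj Γ (f x) (f y)) {x : T} (hx : x ∈ Y) :
    D.ncard = (f '' Y).ncard * {y ∈ D | f y = f x}.ncard := by
  classical
  rw [Set.ncard_eq_toFinset_card D, Set.ncard_eq_toFinset_card (f '' Y),
    Finset.card_eq_sum_card_fiberwise (f := f) (t := (Set.toFinite (f '' Y)).toFinset) (fun y hy => by
      simpa using ⟨y, hY (by simpa using hy), rfl⟩), ← smul_eq_mul, ← Finset.sum_const]
  refine Finset.sum_congr rfl fun w hw => ?_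
  obtain ⟨z, hz, rfl⟩ : w ∈ f '' Y := by simpa using hw
  obtain ⟨g, hg⟩ := t x hx z hz
  rw [← Set.ncard_coe_finset, ← Set.ncard_image_of_injective {y ∈ D | f y = f x} (MulAction.injective g)]
  congr 1
  ext y
  simp only [Finset.coe_filter, Set.Finite.mem_toFinset, Set.mem_setOf_eq, Set.mem_image]
  constructor
  · rintro ⟨a, b⟩
    exact ⟨g⁻¹ • y, ⟨hD _ _ a, by rw [hf, b, ← hg, inv_smul_smul]⟩, smul_inv_smul _ _⟩
  · rintro ⟨y, ⟨a, b⟩, rfl⟩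
    exact ⟨hD _ _ a, by rw [hf, b, hg]⟩

/-- The orbit space of the invariant set is in bijection with `orbit Γ '' Y`
(`⟦y⟧ ↦ orbit Γ (y : T)`). -/
theorem nOrb_eq_card (h : Iv Γ Y) : nOrb Γ Y = Nat.card (orbitRel.Quotient Γ h.sub) := by
  rw [nOrb, ← Nat.card_coe_set_eq]
  refine (Nat.card_eq_of_bijective (Quotient.lift (s := orbitRel Γ h.sub) (fun y : h.sub => (⟨orbit Γ (y : T), y, y.2, rfl⟩ : orbit Γ '' Y))
    fun a b ⟨g, e⟩ => Subtype.ext (cj_iff.1 ⟨g, congrArg Subtype.val e⟩).symm) ⟨?_, ?_⟩).symm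
  · rintro ⟨a⟩ ⟨b⟩ e
    obtain ⟨g, k⟩ := cj_iff.2 (congrArg Subtype.val e).symm
    exact Quotient.sound ⟨g, Subtype.ext k⟩
  · rintro ⟨_, y, hy, rfl⟩
    exact ⟨Quotient.mk _ ⟨y, hy⟩, rfl⟩

theorem nOrb_univ : nOrb Γ (Set.univ : Set T) = Nat.card (orbitRel.Quotient Γ T) := by
  rw [nOrb, ← Nat.card_coe_set_eq]
  refine (Nat.card_eq_of_bijective (Quotient.lift (s := orbitRel Γ T) (fun y : T => (⟨orbit Γ y, y, trivial, rfl⟩ : orbit Γ '' (Set.univ : Set T)))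
    fun a b ⟨g, e⟩ => Subtype.ext (cj_iff.1 ⟨g, e⟩).symm) ⟨?_, ?_⟩).symm
  · rintro ⟨a⟩ ⟨b⟩ e
    exact Quotient.sound (cj_iff.2 (congrArg Subtype.val e).symm)
  · rintro ⟨_, y, -, rfl⟩
    exact ⟨Quotient.mk _ y, rfl⟩

/-- An invariant takes at most `nOrb` values (it factors through `orbit Γ '' Y`). -/
theorem ncard_image_le {β : Type*} (I : T → β) (hI : ∀ x ∈ Y, ∀ y ∈ Y, Cj Γ x y → I x = I y) :
    (I '' Y).ncard ≤ nOrb Γ Y := by
  rcases Y.eq_empty_or_nonempty with rfl | ⟨x, -⟩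
  · simp
  have : Nonempty T := ⟨x⟩
  refine Set.ncard_le_ncard_of_injOn (fun b => orbit Γ (Function.invFunOn I Y b))
    (fun b hb => ⟨_, Function.invFunOn_mem hb, rfl⟩) fun b hb c hc e => ?_
  rw [← Function.invFunOn_eq hb, ← Function.invFunOn_eq hc]
  exact hI _ (Function.invFunOn_mem hb) _ (Function.invFunOn_mem hc) (cj_iff.2 e)

/-- Pigeonhole: `i ↦ orbit Γ (v i)` is not injective. -/
theorem exists_cj_of_lt {k : ℕ} (h : nOrb Γ Y < k) (v : Fin k → T) (hv : ∀ i, v i ∈ Y) :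
    ∃ i j, i ≠ j ∧ Cj Γ (v i) (v j) := by
  by_contra k'
  push Not at k'
  have := Set.ncard_le_ncard_of_injOn (s := Set.univ) (t := orbit Γ '' Y) (fun i => orbit Γ (v i))
    (fun i _ => ⟨_, hv i, rfl⟩) fun i _ j _ e => by_contra fun n => k' i j n (cj_iff.2 e)
  rw [Set.ncard_univ, Nat.card_eq_fintype_card, Fintype.card_fin] at this
  exact h.not_ge this

theorem cj_of_one (h : nOrb Γ Y ≤ 1) {x y : T} (hx : x ∈ Y) (hy : y ∈ Y) : Cj Γ x y := by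
  exact cj_iff.2 ((Set.ncard_le_one_iff (Set.toFinite _)).1 h ⟨x, hx, rfl⟩ ⟨y, hy, rfl⟩)

theorem cj_of_two (h : nOrb Γ Y ≤ 2) {x y z : T} (hx : x ∈ Y) (hy : y ∈ Y) (hz : z ∈ Y)
    (hxy : ¬Cj Γ x y) : Cj Γ x z ∨ Cj Γ y z := by
  by_contra k
  push Not at k
  have := Set.ncard_le_ncard (s := {orbit Γ x, orbit Γ y, orbit Γ z}) (t := orbit Γ '' Y) (by
    rintro _ (rfl | rfl | rfl)
    exacts [⟨x, hx, rfl⟩, ⟨y, hy, rfl⟩, ⟨z, hz, rfl⟩])
  rw [Set.ncard_eq_three.2 ⟨_, _, _, mt cj_iff.2 hxy, mt cj_iff.2 k.1, mt cj_iff.2 k.2, rfl⟩] at this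
  exact absurd (this.trans h) (by norm_num)

theorem exists_not_cj (h : 2 ≤ nOrb Γ Y) : ∃ x ∈ Y, ∃ y ∈ Y, ¬Cj Γ x y := by
  obtain ⟨_, _, ⟨x, hx, rfl⟩, ⟨y, hy, rfl⟩, e⟩ := (Set.one_lt_ncard_iff (Set.toFinite _)).1 h
  exact ⟨x, hx, y, hy, mt cj_iff.1 e⟩

/-- An equivariant bijection preserves the number of orbits. -/
theorem nOrb_congr (f : T → T') (hf : ∀ (g : Γ) x, f (g • x) = g • f x) (hY : Iv Γ Y)
    (hb : Set.BijOn f Y Y') : nOrb Γ Y = nOrb Γ Y' := by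
  rw [nOrb, nOrb, ← hb.image_eq, image_orbits f hf]
  refine (Set.InjOn.ncard_image ?_).symm
  rintro _ ⟨x, hx, rfl⟩ _ ⟨y, hy, rfl⟩ e
  rw [image_orbit f hf, image_orbit f hf] at e
  obtain ⟨g, k⟩ := cj_iff.2 e
  exact cj_iff.1 ⟨g, hb.injOn (hY g x hx) hy (by rw [hf, k])⟩

/-- `f` induces a surjection `orbit Γ '' Y → orbit Γ '' Y'` (`O ↦ f '' O`); here it is bijective. -/
theorem fib1 (f : T → T') (hf : ∀ (g : Γ) x, f (g • x) = g • f x) (hs : f '' Y = Y')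
    (h : nOrb Γ Y ≤ nOrb Γ Y') {x y : T} (hx : x ∈ Y) (hy : y ∈ Y) (e : Cj Γ (f x) (f y)) :
    Cj Γ x y := by
  rw [nOrb, nOrb, ← hs, image_orbits f hf] at h
  refine cj_iff.2 (Set.injOn_of_ncard_image_eq (le_antisymm (Set.ncard_image_le) h) (Set.toFinite _) ⟨x, hx, rfl⟩ ⟨y, hy, rfl⟩ ?_)
  rw [image_orbit f hf, image_orbit f hf, cj_iff.1 e]

/-- One more orbit upstairs: exactly one fibre of the induced surjection on orbits has two
elements.  (Otherwise remove `orbit y` and one of `orbit z`, `orbit u` that is neither `orbit x`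
nor `orbit y` - or think of `∑ (fibre - 1) ≤ 1` - and the rest still maps onto.) -/
theorem fib2 (f : T → T') (hf : ∀ (g : Γ) x, f (g • x) = g • f x) (hs : f '' Y = Y')
    (h : nOrb Γ Y ≤ nOrb Γ Y' + 1) {x y z u : T} (hx : x ∈ Y) (hy : y ∈ Y) (hz : z ∈ Y) (hu : u ∈ Y)
    (e : Cj Γ (f x) (f y)) (ne : ¬Cj Γ x y) (e' : Cj Γ (f z) (f u)) (ne' : ¬Cj Γ z u) :
    (Cj Γ x z ∧ Cj Γ y u) ∨ (Cj Γ x u ∧ Cj Γ y z) := by
  rw [nOrb, nOrb, ← hs, image_orbits f hf] at h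
  have k : ∀ a ∈ Y, ∀ b ∈ Y, Cj Γ (f a) (f b) → ¬Cj Γ a b → Cj Γ b z ∨ Cj Γ b u := fun a ha b hb e ne => by
    by_contra n
    push Not at n
    have i : Set.image f '' (orbit Γ '' Y \ {orbit Γ b}) = Set.image f '' (orbit Γ '' Y) := by
      refine Set.Subset.antisymm (Set.image_mono Set.diff_subset) ?_
      rintro _ ⟨O, hO, rfl⟩
      by_cases c : O = orbit Γ b
      · exact ⟨_, ⟨⟨a, ha, rfl⟩, mt cj_iff.2 ne⟩, by rw [c, image_orbit f hf, image_orbit f hf, cj_iff.1 e]⟩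
      · exact ⟨O, ⟨hO, c⟩, rfl⟩
    have c := Set.ncard_diff_singleton_add_one (s := orbit Γ '' Y) ⟨b, hb, rfl⟩
    refine ne' (cj_iff.2 (Set.injOn_of_ncard_image_eq (s := orbit Γ '' Y \ {orbit Γ b}) (f := Set.image f)
      (le_antisymm Set.ncard_image_le (by rw [i]; omega)) (Set.toFinite _)
      ⟨⟨z, hz, rfl⟩, fun e => n.1 (cj_iff.2 e.symm)⟩ ⟨⟨u, hu, rfl⟩, fun e => n.2 (cj_iff.2 e.symm)⟩ ?_))
    rw [image_orbit f hf, image_orbit f hf, cj_iff.1 e']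
  rcases k x hx y hy e ne with a | a <;> rcases k y hy x hx e.symm (mt Cj.symm ne) with b | b
  exacts [(ne (b.trans a.symm)).elim, .inr ⟨b, a⟩, .inl ⟨b, a⟩, (ne (b.trans a.symm)).elim]

/-- All fibres of the induced surjection on orbits have at least two, so exactly two elements. -/
theorem fib3 (f : T → T') (hf : ∀ (g : Γ) x, f (g • x) = g • f x) (hs : f '' Y = Y')
    (h : nOrb Γ Y ≤ 2 * nOrb Γ Y')
    (h2 : ∀ w ∈ Y', ∃ x ∈ Y, ∃ y ∈ Y, f x = w ∧ f y = w ∧ ¬Cj Γ x y)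
    {x y z : T} (hx : x ∈ Y) (hy : y ∈ Y) (hz : z ∈ Y) (e : Cj Γ (f x) (f y))
    (e' : Cj Γ (f x) (f z)) (ne : ¬Cj Γ x y) : Cj Γ x z ∨ Cj Γ y z := by
  classical
  by_contra n
  push Not at n
  rw [nOrb, nOrb, Set.ncard_eq_toFinset_card, Set.ncard_eq_toFinset_card,
    Finset.card_eq_sum_card_fiberwise (f := Set.image f) (t := (Set.toFinite (orbit Γ '' Y')).toFinset) (fun O hO => by
      obtain ⟨a, ha, rfl⟩ : O ∈ orbit Γ '' Y := by simpa using hO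
      simpa using ⟨f a, hs ▸ ⟨a, ha, rfl⟩, (image_orbit f hf a).symm⟩), mul_comm, ← smul_eq_mul, ← Finset.sum_const] at h
  have m : ∀ a ∈ Y, ∀ w, Cj Γ (f a) w → orbit Γ a ∈ (Set.toFinite (orbit Γ '' Y)).toFinset.filter (f '' · = orbit Γ w) :=
    fun a ha w e => by
      simp only [Finset.mem_filter, Set.Finite.mem_toFinset]
      exact ⟨⟨a, ha, rfl⟩, by rw [image_orbit f hf, cj_iff.1 e]⟩
  refine h.not_gt (Finset.sum_lt_sum (fun O hO => ?_) ⟨orbit Γ (f x), by simpa using ⟨f x, hs ▸ ⟨x, hx, rfl⟩, rfl⟩, ?_⟩)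
  · obtain ⟨w, hw, rfl⟩ : O ∈ orbit Γ '' Y' := by simpa using hO
    obtain ⟨a, ha, b, hb, rfl, e, ne⟩ := h2 w hw
    exact Finset.one_lt_card.2 ⟨_, m a ha _ (.refl _), _, m b hb _ (e ▸ .refl _), mt cj_iff.2 ne⟩
  · exact Finset.two_lt_card_iff.2 ⟨_, _, _, m x hx _ (.refl _), m y hy _ e.symm, m z hz _ e'.symm, mt cj_iff.2 ne,
      mt cj_iff.2 n.1, mt cj_iff.2 n.2⟩

/-- Double counting.  `Γ` is transitive on `f '' Y` and on `f' '' Y`, the fibres in `Y` have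
coprime sizes `α`, `β`.  An invariant `D ⊆ Y` has constant fibre sizes `a ≤ α`, `r ≤ β`;
`|Y| = |f '' Y| α = |f' '' Y| β` and `|D| = |f '' Y| a = |f' '' Y| r` give `a β = r α`, so `α ∣ a`:
`a = 0` or `a = α`.  Apply this to the orbit `D` of a point. -/
theorem bip {T'' : Type*} [MulAction Γ T''] [Finite T''] (hY : Iv Γ Y) (f : T → T') (f' : T → T'')
    (hf : ∀ (g : Γ) x, f (g • x) = g • f x) (hf' : ∀ (g : Γ) x, f' (g • x) = g • f' x)
    (t : nOrb Γ (f '' Y) ≤ 1) (t' : nOrb Γ (f' '' Y) ≤ 1) {α β : ℕ}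
    (hα : ∀ x ∈ Y, {y ∈ Y | f y = f x}.ncard = α) (hβ : ∀ x ∈ Y, {y ∈ Y | f' y = f' x}.ncard = β)
    (hc : α.Coprime β) : nOrb Γ Y ≤ 1 := by
  refine (Set.ncard_le_one_iff (Set.toFinite _)).2 ?_
  rintro _ _ ⟨x, hx, rfl⟩ ⟨y, hy, rfl⟩
  have hD : {y | Cj Γ x y} ⊆ Y := fun y e => (hY.cj e).1 hx
  have s := fun a (ha : a ∈ Y) b (hb : b ∈ Y) => cj_of_one t ⟨a, ha, rfl⟩ ⟨b, hb, rfl⟩
  have s' := fun a (ha : a ∈ Y) b (hb : b ∈ Y) => cj_of_one t' ⟨a, ha, rfl⟩ ⟨b, hb, rfl⟩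
  have a1 := orb_cnt hY le_rfl f hf s hx
  have a2 := orb_cnt hY le_rfl f' hf' s' hx
  have b1 := orb_cnt (iv_cj x) hD f hf s hx
  have b2 := orb_cnt (iv_cj x) hD f' hf' s' hx
  rw [hα x hx] at a1
  rw [hβ x hx] at a2
  have p : 0 < {y ∈ {y | Cj Γ x y} | f y = f x}.ncard := (Set.ncard_pos (Set.toFinite _)).2 ⟨x, .refl _, rfl⟩
  have n : 0 < (f '' Y).ncard := (Set.ncard_pos (Set.toFinite _)).2 ⟨_, x, hx, rfl⟩
  have n' : 0 < (f' '' Y).ncard := (Set.ncard_pos (Set.toFinite _)).2 ⟨_, x, hx, rfl⟩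
  generalize {y ∈ {y | Cj Γ x y} | f y = f x}.ncard = a at *
  generalize {y ∈ {y | Cj Γ x y} | f' y = f' x}.ncard = r at *
  have e : a * β = α * r := Nat.eq_of_mul_eq_mul_left (Nat.mul_pos n n') (by
    rw [mul_mul_mul_comm, ← b1, ← a2, mul_mul_mul_comm, ← a1, ← b2, mul_comm])
  have := Nat.le_of_dvd p (hc.dvd_of_dvd_mul_right ⟨r, e⟩)
  have := Set.eq_of_subset_of_ncard_le hD (by rw [a1, b1]; exact Nat.mul_le_mul_left _ this)
  exact cj_iff.1 (this.ge hy)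

/-- Three orbits of a group of odd order (sizes divide the order): the set has odd size. -/
theorem odd_card_of_three [Finite Γ] (hΓ : Odd (Nat.card Γ))
    (h : Nat.card (orbitRel.Quotient Γ T) = 3) : Odd (Nat.card T) := by
  classical
  have := Fintype.ofFinite (orbitRel.Quotient Γ T)
  rw [Nat.card_congr (selfEquivSigmaOrbits Γ T), Nat.card_sigma, Finset.odd_sum_iff_odd_card_odd,
    Finset.filter_true_of_mem fun ω _ => hΓ.of_dvd_nat (by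
      rw [Nat.card_coe_set_eq, ← index_stabilizer]; exact Subgroup.index_dvd_card _), Finset.card_univ,
    ← Nat.card_eq_fintype_card, h]
  decide

end Cfsg.Lib.RK3
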